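import Cfsg.Agent.H126.PwO.Nu_m3
import Cfsg.Agent.H122.Pw.Pc
import Cfsg.Agent.H194.Ore.RowThree_m3
import Cfsg.Agent.H934.MF.Diag
import Cfsg.Agent.H193.SsConj
import Cfsg.Agent.H162.GaussReg
import Cfsg.Agent.H85.Ore.Phi_mg_m3
import Cfsg.Agent.H649.PwSp.Corner_m3
import Cfsg.Agent.TitsThree.RTFast
import Cfsg.Agent.H155.TG.ChevTab
import Cfsg.Agent.S1054
import Cfsg.Agent.S1055
import Cfsg.Agent.ChevFast.E6
import Cfsg.Agent.ChevFast.E7
import Cfsg.Agent.ChevFast.Lin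
import Cfsg.Agent.FastGrp
import Cfsg.Agent.Prune
set_option linter.all false

section
prune_inst 0x7fffbdf9bfbcd1dfdfff7e7ffeddddfdf8ffffffafdffbcb7fe861ffafdf2b82d9e5638d09e050ff0ed6c2b610e87b43fbffffffee6bfc7ffffd5ff41ffbffcfedf7b50851948c340f380ff703f07fce7f3fffffffffffffffffffffffffffbeffffffffffff

-- part: H85/Pw/Cub
section
prune_inst 0x24043262000000000000220000700000000000400800688001020d01804080020161b2a00102108400006008000000000000400000000a0004000001010000800004a0080000000000000000000000000000000000000000000000000000000000000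
set_option linter.all false
open scoped Cfsg.Agent.FastGrp

-- part: H85/Pw/Ef
section
/-!
# Two blocks: eigenvalues with `lam ^ m ≠ 1` on the first, `mu ^ m = 1 ≠ mu` on the second (S2465)

* `all_of_two` : the theorem;
* `ev_two` : elements of prime order `ℓ ≥ 5` of `SL_2(q)`;
* `p_two_ev` : the products `L * U` in `SL_2(q)`.
-/

set_option autoImplicit false
set_option linter.unusedSectionVars false

namespace Cfsg.Agent.H85.Pw

open CoxeterSystem Cfsg.Agent.ChevalleyStructure.CoxeterGeom Cfsg.Agent.Tits.Roots Cfsg.Agent.Tits.Core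
  Cfsg.Agent.Nodes.Reps Cfsg.Agent.Nodes.BNOf Cfsg.Agent.Nodes.RGDLib Cfsg.Agent.Nodes.Bruhat
  Cfsg.Agent.Nodes.OppDec Cfsg.Agent.Nodes.LeviDec Cfsg.Agent.Nodes.KindChev Cfsg.Agent.Nodes.ChevCls
  Cfsg.Agent.OddHalf.NI.ModelChev
  Cfsg.Agent.H162.GaussDec Cfsg.Agent.H162.GaussLevi Cfsg.Agent.H162.GaussSL Cfsg.Agent.H162.GaussReg
  Cfsg.Agent.H162.GaussMain Cfsg.Agent.H162.GaussPQ Cfsg.Agent.H162.GaussExc
open Cfsg.Lie Cfsg.Agent.ChevalleyStructure Cfsg.Agent.ChevalleyStructure.Elts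
  Cfsg.Agent.ChevalleyStructure.RootVec Cfsg.Agent.ChevalleyStructure.NPerm
  Cfsg.Agent.ChevalleyStructure.CoxeterGeomTypes Cfsg.Agent.Nodes.RGDChev Cfsg.Agent.KFacts.RgdChevCoord
open Cfsg.Agent.H928.Ore.Frame (NF LP)
open Cfsg.Agent.H85.Ore Cfsg.Agent.H78.Pw
open Polynomial (X C)

universe u

/-- the eigenvalues of the first block -/
def E₁ (m n : ℕ) {k : ℕ} {K' : Type} [Field K'] (lam : Fin k → K') : Prop :=
  (∏ a, lam a = 1) ∧ (∀ a, (orderOf (lam a)).Coprime n) ∧ ∀ a, lam a ^ m ≠ 1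

/-- the eigenvalues of the second block -/
def E₂ (m n : ℕ) {k : ℕ} {K' : Type} [Field K'] (mu : Fin k → K') : Prop :=
  (∏ a, mu a = 1) ∧ (∀ a, (orderOf (mu a)).Coprime n) ∧ ∀ a, mu a ^ m = 1 ∧ mu a ≠ 1

/-- one of the exponents is different -/
def Sgl {k : ℕ} (w : Fin k → ℤ) : Prop :=
  ∃ a, ∃ c ∈ ([-2, -1, 0, 1, 2] : List ℤ), (∀ b, b ≠ a → w b = c) ∧ (w a = c + 1 ∨ w a = c + -1)

/-- the exponents are the same -/
def Cst {k : ℕ} (w : Fin k → ℤ) : Prop := ∃ c ∈ ([-2, -1, 0, 1, 2] : List ℤ), ∀ b, w b = c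

instance {k : ℕ} (w : Fin k → ℤ) : Decidable (Sgl w) := by unfold Sgl; infer_instance

instance {k : ℕ} (w : Fin k → ℤ) : Decidable (Cst w) := by unfold Cst; infer_instance

/-- the table of the roots outside `J` -/
def Chk2 (D : ChevalleyDatum) (l : ℕ) (J : List (Fin l)) {n₁ n₂ : ℕ} (j₁ : Fin (n₁ + 1) → Fin l)
    (j₂ : Fin (n₂ + 1) → Fin l) : Prop :=
  ∀ q < D.nroots, (∃ k : Fin l, k ∉ J ∧ vec D l q k ≠ 0) → Sgl (wt D j₁ q) ∨ (Cst (wt D j₁ q) ∧ Sgl (wt D j₂ q))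

instance (D : ChevalleyDatum) (l : ℕ) (J : List (Fin l)) {n₁ n₂ : ℕ} (j₁ : Fin (n₁ + 1) → Fin l)
    (j₂ : Fin (n₂ + 1) → Fin l) : Decidable (Chk2 D l J j₁ j₂) := by
  unfold Chk2
  refine @Nat.decidableBallLT _ _ fun q _ => ?_
  infer_instance

section

variable {K' : Type} [Field K'] {k : ℕ}

theorem ne_zero_of_prod {lam : Fin k → K'} (h : ∏ a, lam a = 1) (a : Fin k) : lam a ≠ 0 := by
  intro h0
  rw [Finset.prod_eq_zero (Finset.mem_univ a) h0] at h
  exact zero_ne_one h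

theorem val_cst {lam : Fin k → K'} (h : ∏ a, lam a = 1) {w : Fin k → ℤ} (hw : Cst w) : ∏ b, lam b ^ w b = 1 := by
  obtain ⟨c, -, hc⟩ := hw
  rw [Finset.prod_congr rfl fun b _ => by rw [hc b], Finset.prod_zpow, h, one_zpow]

theorem val_sgl {lam : Fin k → K'} (h : ∏ a, lam a = 1) {w : Fin k → ℤ} (hw : Sgl w) :
    ∃ a, ∏ b, lam b ^ w b = lam a ∨ ∏ b, lam b ^ w b = (lam a)⁻¹ := by
  obtain ⟨a, c, -, h1, h2⟩ := hw
  have key : ∀ e : ℤ, w a = c + e → ∏ b, lam b ^ w b = lam a ^ e := by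
    intro e he
    have h3 : ∀ b, lam b ^ w b = lam b ^ c * (if b = a then lam a ^ e else 1) := by
      intro b
      by_cases hb : b = a
      · rw [if_pos hb, hb, he, zpow_add₀ (ne_zero_of_prod h a)]
      · rw [if_neg hb, h1 b hb, mul_one]
    rw [Finset.prod_congr rfl fun b _ => h3 b, Finset.prod_mul_distrib, Finset.prod_zpow, h, one_zpow, one_mul,
      Finset.prod_ite_eq' Finset.univ a, if_pos (Finset.mem_univ a)]
  refine ⟨a, h2.imp (fun h3 => ?_) fun h3 => ?_⟩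
  · rw [key 1 h3, zpow_one]
  · rw [key (-1) h3, zpow_neg_one]

theorem prod_pow_one {mu : Fin k → K'} {m : ℕ} (h : ∀ a, mu a ^ m = 1) (w : Fin k → ℤ) :
    (∏ b, mu b ^ w b) ^ m = 1 := by
  rw [← Finset.prod_pow]
  refine Finset.prod_eq_one fun b _ => ?_
  rw [← zpow_natCast, ← zpow_mul, mul_comm, zpow_mul, zpow_natCast, h, one_zpow]

theorem out_ne {D : ChevalleyDatum} {l : ℕ} {J : List (Fin l)} {n₁ n₂ : ℕ} {j₁ : Fin (n₁ + 1) → Fin l}
    {j₂ : Fin (n₂ + 1) → Fin l} (hchk : Chk2 D l J j₁ j₂) {m n : ℕ} {lam : Fin (n₁ + 2) → K'} (h₁ : E₁ m n lam)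
    {mu : Fin (n₂ + 2) → K'} (h₂ : E₂ m n mu) {q : ℕ} (hq : q < D.nroots) (hk : ∃ k : Fin l, k ∉ J ∧ vec D l q k ≠ 0) :
    (∏ b, lam b ^ wt D j₁ q b) * ∏ b, mu b ^ wt D j₂ q b ≠ 1 := by
  rcases hchk q hq hk with h | ⟨h, h'⟩
  · obtain ⟨a, ha⟩ := val_sgl h₁.1 h
    intro h3
    have h4 := congrArg (· ^ m) h3
    simp only [mul_pow, one_pow] at h4
    rw [prod_pow_one (fun a => (h₂.2.2 a).1), mul_one] at h4
    rcases ha with ha | ha
    · rw [ha] at h4
      exact h₁.2.2 a h4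
    · rw [ha, inv_pow, inv_eq_one] at h4
      exact h₁.2.2 a h4
  · rw [val_cst h₁.1 h, one_mul]
    obtain ⟨a, ha⟩ := val_sgl h₂.1 h'
    rcases ha with ha | ha
    · rw [ha]
      exact (h₂.2.2 a).2
    · rw [ha, ne_eq, inv_eq_one]
      exact (h₂.2.2 a).2

/-- the product of all orders prime to `n` -/
noncomputable def NN (K' : Type) [Field K'] [Fintype K'] [DecidableEq K'] (n : ℕ) : ℕ :=
  ∏ z : K'ˣ, if (orderOf z).Coprime n then orderOf z else 1

theorem NN_coprime [Fintype K'] [DecidableEq K'] (n : ℕ) : (NN K' n).Coprime n := by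
  refine Nat.Coprime.prod_left fun z _ => ?_
  by_cases h : (orderOf z).Coprime n
  · rw [if_pos h]; exact h
  · rw [if_neg h]; exact Nat.coprime_one_left n

theorem pow_NN [Fintype K'] [DecidableEq K'] {n : ℕ} {lam : Fin k → K'} (h : ∏ a, lam a = 1) {a : Fin k}
    (ha : (orderOf (lam a)).Coprime n) : lam a ^ NN K' n = 1 := by
  have h0 := ne_zero_of_prod h a
  have h1 : orderOf (lam a) = orderOf (Units.mk0 (lam a) h0) := by rw [← orderOf_units, Units.val_mk0]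
  refine orderOf_dvd_iff_pow_eq_one.1 ?_
  have h2 : (if (orderOf (Units.mk0 (lam a) h0)).Coprime n then orderOf (Units.mk0 (lam a) h0) else 1) ∣ NN K' n :=
    Finset.dvd_prod_of_mem (fun z : K'ˣ => if (orderOf z).Coprime n then orderOf z else 1)
      (Finset.mem_univ (Units.mk0 (lam a) h0))
  rw [← h1, if_pos ha] at h2
  exact h2

end

section

variable {D : ChevalleyDatum} {l : ℕ} {M : CoxeterMatrix (Fin l)} (hp : IsType D l M) {J : List (Fin l)} {n₁ n₂ : ℕ}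
  {r₁ : Fin (n₁ + 2) → Fin (n₁ + 2) → ℕ} {r₂ : Fin (n₂ + 2) → Fin (n₂ + 2) → ℕ} {j₁ : Fin (n₁ + 1) → Fin l}
  {j₂ : Fin (n₂ + 1) → Fin l} {ε₁ ε₂ : ℤ} (T₁ : Tb hp J n₁ r₁ j₁ ε₁) (T₂ : Tb hp J n₂ r₂ j₂ ε₂)
  (hsub : Sub2 D l J n₁ n₂ r₁ r₂) (hcom : Com2 D n₁ n₂ r₁ r₂) (hchk : Chk2 D l J j₁ j₂)
  {K : Type u} [Field K] [Finite K] {K' : Type} [Field K'] [Finite K'] (i : K →+* K')
  {φ₁ : Matrix.SpecialLinearGroup (Fin (n₁ + 2)) K →* ↥(D.group K)}
  {φ₂ : Matrix.SpecialLinearGroup (Fin (n₂ + 2)) K →* ↥(D.group K)}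
  (hφ₁ : ∀ a b (hab : a ≠ b) c, φ₁ (Matrix.SpecialLinearGroup.transvection hab c) =
    xc hp (vec D l (r₁ a b)) ((ε₁ : K) * c))
  (hφ₂ : ∀ a b (hab : a ≠ b) c, φ₂ (Matrix.SpecialLinearGroup.transvection hab c) =
    xc hp (vec D l (r₂ a b)) ((ε₂ : K) * c))
  (hl : 0 < l) (hG : IsSimpleGroup ↥(D.group K) ∧ ¬ IsMulCommutative ↥(D.group K))
  (hM : ∀ J : Finset (Fin l), J = ∅ ∨ J = Finset.univ ∨ ∃ a ∈ J, ∃ b, b ∉ J ∧ M a b ≠ 2)

include T₁ T₂ hsub hcom hchk hφ₁ hφ₂ hl hG hM in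
/-- **Products of two elements of order prime to `n` from two blocks.** -/
theorem all_of_two {m n : ℕ}
    (P₁ : ∀ L ∈ LT (n₁ + 2) K, ∀ U ∈ UT (n₁ + 2) K, ∃ x y : Matrix.SpecialLinearGroup (Fin (n₁ + 2)) K,
      L * U = x * y ∧ Ev i (E₁ m n) x ∧ Ev i (E₁ m n) y)
    (P₂ : ∀ L ∈ LT (n₂ + 2) K, ∀ U ∈ UT (n₂ + 2) K, ∃ x y : Matrix.SpecialLinearGroup (Fin (n₂ + 2)) K,
      L * U = x * y ∧ Ev i (E₂ m n) x ∧ Ev i (E₂ m n) y) : All n ↥(D.group K) := by
  classical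
  have := Fintype.ofFinite K'
  exact all_of_pairs (NN_coprime (K' := K') n) (pairs_of_two hp T₁ T₂ hsub hcom hφ₁ hφ₂ i hl hG hM
    (fun lam h₁ mu h₂ q hq hk => out_ne hchk h₁ h₂ hq hk) (fun lam h a => pow_NN h.1 (h.2.1 a))
    (fun mu h a => pow_NN h.1 (h.2.1 a)) P₁ P₂)

end

/-! ### `SL_2(q)` -/

section

variable {K : Type u} [Field K] [Finite K] {K' : Type} [Field K'] [Finite K'] [Algebra K K'] {d : ℕ}

theorem ev_two (hK' : Nat.card K' = Nat.card K ^ d) (hd : 2 ∣ d) {ℓ m n : ℕ} (hℓ : ℓ.Prime) (h5 : 5 ≤ ℓ)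
    (hℓq : ℓ ∣ Nat.card K ^ 2 - 1) (hℓm : ℓ ∣ m) (hℓn : ℓ.Coprime n) {x : Matrix.SpecialLinearGroup (Fin 2) K}
    (hx : orderOf x = ℓ) : Ev (algebraMap K K') (E₂ m n) x := by
  have h0 := Cfsg.Agent.H267.Ore.PTwo.cast_ne_zero (K := K) hℓ hℓq
  obtain ⟨h1, h2, -, -⟩ := Cfsg.Agent.H267.Ore.PTwo.tc_facts hℓ h5 h0 hx
  have hc : x.1.charpoly = X ^ 2 - C (Cfsg.Agent.H267.Ore.PTwo.tc x) * X + C 1 := by
    rw [Matrix.charpoly_fin_two, x.2, Matrix.trace_fin_two]
    rfl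
  refine ev_of_dvd hK' (by rw [hc]; exact dvd_quad hd h1 h2) fun mu e1 e2 e3 => ?_
  have hp : ∀ a, mu a ^ ℓ = 1 := fun a => root_pow (by rw [← hx, pow_orderOf_eq_one]) (e3 a)
  refine ⟨e1, fun a => ?_, fun a => ⟨?_, ?_⟩⟩
  · exact Nat.Coprime.of_dvd_left (orderOf_dvd_of_pow_eq_one (hp a)) hℓn
  · obtain ⟨c, rfl⟩ := hℓm
    rw [pow_mul, hp a, one_pow]
  · intro ha
    rw [Fin.prod_univ_two] at e1
    have h3 : mu 0 = mu 1 := by
      fin_cases a
      · have ha' : mu 0 = 1 := ha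
        rw [ha', one_mul] at e1
        rw [ha', e1]
      · have ha' : mu 1 = 1 := ha
        rw [ha', mul_one] at e1
        rw [ha', e1]
    exact absurd (e2 h3) (by decide)

theorem p_two_ev (hK' : Nat.card K' = Nat.card K ^ d) (hd : 2 ∣ d) {ℓ m n : ℕ} (hℓ : ℓ.Prime) (h5 : 5 ≤ ℓ)
    (hℓq : ℓ ∣ Nat.card K ^ 2 - 1) (hℓm : ℓ ∣ m) (hℓn : ℓ.Coprime n) :
    ∀ L ∈ LT 2 K, ∀ U ∈ UT 2 K, ∃ x y : Matrix.SpecialLinearGroup (Fin 2) K,
      L * U = x * y ∧ Ev (algebraMap K K') (E₂ m n) x ∧ Ev (algebraMap K K') (E₂ m n) y := by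
  intro L hL U hU
  obtain ⟨x, y, h1, h2, h3⟩ := Cfsg.Agent.H267.Ore.PTwo.p_two_prime hℓ h5 hℓq
    (Cfsg.Agent.H267.Ore.PTwo.nonscalar_LU hL hU)
  exact ⟨x, y, h1, ev_two hK' hd hℓ h5 hℓq hℓm hℓn h2, ev_two hK' hd hℓ h5 hℓq hℓm hℓn h3⟩

end

end Cfsg.Agent.H85.Pw
end

-- part: H85/Pw/Cub
section
/-!
# Products of two elements of `SL_3(q)` with prescribed eigenvalues (S2465)

* `ev_irr` : elements with irreducible characteristic polynomial, `lam ^ (q ^ 2 - 1) ≠ 1`;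
* `p_irr` : `L * U`, orders dividing `q² + q + 1`;
* `p_nu` : `L * U`, characteristic polynomial `(X - ν) p`, `lam ^ (q + 1) ≠ 1`.
-/

set_option autoImplicit false
set_option linter.unusedSectionVars false

namespace Cfsg.Agent.H85.Pw

open Cfsg.Agent.H162.GaussSL
open Polynomial

universe u

/-! ### Inverses -/

theorem gdg {K' : Type} [Field K'] {m : ℕ} (g : GL (Fin m) K') (D D' : Matrix (Fin m) (Fin m) K') (h : D * D' = 1) :
    ((g : Matrix (Fin m) (Fin m) K') * D * ((g⁻¹ : GL (Fin m) K') : Matrix (Fin m) (Fin m) K')) *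
      ((g : Matrix (Fin m) (Fin m) K') * D' * ((g⁻¹ : GL (Fin m) K') : Matrix (Fin m) (Fin m) K')) = 1 := by
  have e1 : ((g⁻¹ : GL (Fin m) K') : Matrix (Fin m) (Fin m) K') * (g : Matrix (Fin m) (Fin m) K') = 1 := by
    rw [← Units.val_mul, inv_mul_cancel]; rfl
  have e2 : (g : Matrix (Fin m) (Fin m) K') * ((g⁻¹ : GL (Fin m) K') : Matrix (Fin m) (Fin m) K') = 1 := by
    rw [← Units.val_mul, mul_inv_cancel]; rfl
  calc (g : Matrix (Fin m) (Fin m) K') * D * ((g⁻¹ : GL (Fin m) K') : Matrix (Fin m) (Fin m) K') *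
          ((g : Matrix (Fin m) (Fin m) K') * D' * ((g⁻¹ : GL (Fin m) K') : Matrix (Fin m) (Fin m) K'))
        = (g : Matrix (Fin m) (Fin m) K') * (D *
            (((g⁻¹ : GL (Fin m) K') : Matrix (Fin m) (Fin m) K') * (g : Matrix (Fin m) (Fin m) K')) *
            D') * ((g⁻¹ : GL (Fin m) K') : Matrix (Fin m) (Fin m) K') := by
          simp only [mul_assoc]
      _ = 1 := by
          rw [e1, mul_one, h, mul_one, e2]

theorem chg {K' : Type} [Field K'] {m : ℕ} (g : GL (Fin m) K') (D : Matrix (Fin m) (Fin m) K') :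
    ((g : Matrix (Fin m) (Fin m) K') * D * ((g⁻¹ : GL (Fin m) K') : Matrix (Fin m) (Fin m) K')).charpoly = D.charpoly := by
  rw [Matrix.coe_units_inv]
  exact Matrix.charpoly_units_conj g D

theorem ev_inv {K : Type u} {K' : Type} [Field K] [Field K'] {i : K →+* K'} {m : ℕ} {E : (Fin m → K') → Prop}
    (hE : ∀ lam, E lam → (∀ a, lam a ≠ 0) ∧ E fun a => (lam a)⁻¹) {x : Matrix.SpecialLinearGroup (Fin m) K}
    (hx : Ev i E x) : Ev i E x⁻¹ := by
  obtain ⟨lam, h1, h2, h3⟩ := hx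
  obtain ⟨h0, h4⟩ := hE lam h1
  refine ⟨fun a => (lam a)⁻¹, h4, fun a b hab => h2 (inv_injective hab), ?_⟩
  obtain ⟨g, hg⟩ := Cfsg.Agent.H934.MF.diag_map i x.1 h2 h3
  have e3 : (x⁻¹ : Matrix.SpecialLinearGroup (Fin m) K).1.map i * x.1.map i = 1 := by
    have h5 : ((x⁻¹ * x : Matrix.SpecialLinearGroup (Fin m) K)).1.map i =
        (x⁻¹ : Matrix.SpecialLinearGroup (Fin m) K).1.map i * x.1.map i :=
      map_mul i.mapMatrix (x⁻¹ : Matrix.SpecialLinearGroup (Fin m) K).1 x.1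
    rw [← h5, inv_mul_cancel]
    exact map_one i.mapMatrix
  have e6 : Matrix.diagonal lam * Matrix.diagonal (fun a => (lam a)⁻¹) = 1 := by
    rw [Matrix.diagonal_mul_diagonal]
    have h6 : (fun a => lam a * (lam a)⁻¹) = fun _ : Fin m => (1 : K') := by
      funext a
      exact mul_inv_cancel₀ (h0 a)
    rw [h6, Matrix.diagonal_one]
  have e4 := gdg g _ _ e6
  rw [← hg] at e4
  have e5 : (x⁻¹ : Matrix.SpecialLinearGroup (Fin m) K).1.map i = (g : Matrix (Fin m) (Fin m) K') *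
      Matrix.diagonal (fun a => (lam a)⁻¹) * ((g⁻¹ : GL (Fin m) K') : Matrix (Fin m) (Fin m) K') := by
    rw [← mul_one ((x⁻¹ : Matrix.SpecialLinearGroup (Fin m) K).1.map i), ← e4, ← mul_assoc, e3, one_mul]
  rw [← Matrix.charpoly_map, e5, chg, Matrix.charpoly_diagonal]

theorem E₁_inv {m n k : ℕ} {K' : Type} [Field K'] {lam : Fin k → K'} (h : E₁ m n lam) :
    (∀ a, lam a ≠ 0) ∧ E₁ m n fun a => (lam a)⁻¹ := by
  refine ⟨ne_zero_of_prod h.1, ?_, fun a => ?_, fun a => ?_⟩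
  · rw [Finset.prod_inv_distrib, h.1, inv_one]
  · have h1 : orderOf (lam a)⁻¹ = orderOf (lam a) := by
      have h0 := ne_zero_of_prod h.1 a
      have h2 : orderOf (lam a) = orderOf (Units.mk0 (lam a) h0) := by rw [← orderOf_units, Units.val_mk0]
      have h3 : orderOf (lam a)⁻¹ = orderOf (Units.mk0 (lam a) h0)⁻¹ := by
        rw [← orderOf_units, Units.val_inv_eq_inv_val, Units.val_mk0]
      rw [h3, orderOf_inv, h2]
    rw [h1]
    exact h.2.1 a
  · rw [inv_pow, ne_eq, inv_eq_one]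
    exact h.2.2 a

/-! ### Irreducible characteristic polynomials -/

section

variable {K : Type u} [Field K] [Finite K] {K' : Type} [Field K'] [Finite K'] [Algebra K K'] {d : ℕ}

theorem ev_irr (hK' : Nat.card K' = Nat.card K ^ d) {k e n : ℕ} (hk : k ∣ d) (he : ¬ k ∣ e)
    {x : Matrix.SpecialLinearGroup (Fin k) K} (hx : Irreducible x.1.charpoly) (hn : (orderOf x).Coprime n) :
    Ev (algebraMap K K') (E₁ (Nat.card K ^ e - 1) n) x := by
  have hd : x.1.charpoly.natDegree = k := by rw [Matrix.charpoly_natDegree_eq_dim, Fintype.card_fin]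
  refine ev_of_dvd hK' (irr_dvd hx (by rw [hd]; exact hk)) fun lam h1 h2 h3 => ⟨h1, fun a => ?_, fun a h4 => ?_⟩
  · exact Nat.Coprime.of_dvd_left (orderOf_dvd_of_pow_eq_one (root_pow (pow_orderOf_eq_one x) (h3 a))) hn
  · refine irr_ne hx (by rw [hd]; exact he) (h3 a) ?_
    have h5 : Nat.card K ^ e = Nat.card K ^ e - 1 + 1 := by
      have : 0 < Nat.card K ^ e := pow_pos Nat.card_pos e
      omega
    rw [h5, pow_succ, h4, one_mul]

/-- `L * U`, orders dividing `q² + q + 1` -/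
theorem p_irr (hK' : Nat.card K' = Nat.card K ^ d) (hd : 3 ∣ d) (hq : 4 ≤ Nat.card K) {n : ℕ}
    (hn : (1 + Nat.card K + Nat.card K ^ 2).Coprime n) :
    ∀ L ∈ LT 3 K, ∀ U ∈ UT 3 K, ∃ x y : Matrix.SpecialLinearGroup (Fin 3) K, L * U = x * y ∧
      Ev (algebraMap K K') (E₁ (Nat.card K ^ 2 - 1) n) x ∧ Ev (algebraMap K K') (E₁ (Nat.card K ^ 2 - 1) n) y := by
  intro L hL U hU
  obtain ⟨x, y, h1, h2, h3, -⟩ := Cfsg.Agent.H126.M3.m3_lu hq L U hL hU
  have key : ∀ z : Matrix.SpecialLinearGroup (Fin 3) K, Irreducible (z : Matrix (Fin 3) (Fin 3) K).charpoly →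
      (orderOf z).Coprime n := by
    intro z hz
    have h4 := Cfsg.Agent.H194.Pw.irr_pow hz
    rw [Finset.sum_range_succ, Finset.sum_range_succ, Finset.sum_range_one, pow_zero, pow_one] at h4
    exact Nat.Coprime.of_dvd_left (orderOf_dvd_of_pow_eq_one h4) hn
  exact ⟨x, y, h1, ev_irr hK' hd (by norm_num) h2 (key x h2), ev_irr hK' hd (by norm_num) h3 (key y h3)⟩

/-! ### `(X - ν) p` -/

theorem norm_quad {p : K[X]} (hp : Irreducible p) (hm : p.Monic) (hd : p.natDegree = 2) {z : K'}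
    (hz : (p.map (algebraMap K K')).IsRoot z) : z ^ (Nat.card K + 1) = algebraMap K K' (p.coeff 0) := by
  have := Fintype.ofFinite K
  have e : p = X ^ 2 + C (p.coeff 1) * X + C (p.coeff 0) := by
    have h5 := hm.as_sum
    rw [hd, Finset.sum_range_succ, Finset.sum_range_one] at h5
    nth_rw 1 [h5]
    simp
    ring
  have h1 : z ^ (Nat.card K ^ 1) ≠ z := irr_ne hp (by rw [hd]; norm_num) hz
  rw [pow_one] at h1
  have h2 : aeval z p = 0 := by rwa [IsRoot.def, eval_map_algebraMap] at hz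
  have h3 := Cfsg.Agent.H934.MF.root_pow h2 1
  rw [pow_one, ← Nat.card_eq_fintype_card] at h3
  rw [e] at h2 h3
  simp only [map_add, map_mul, map_pow, aeval_X, aeval_C] at h2 h3
  have h4 : (z ^ Nat.card K - z) * (z ^ Nat.card K + z + algebraMap K K' (p.coeff 1)) = 0 := by
    linear_combination h3 - h2
  have h5 := (mul_eq_zero.1 h4).resolve_left (sub_ne_zero.2 h1)
  rw [pow_succ]
  linear_combination z * h5 - h2

theorem ev_nu (hK' : Nat.card K' = Nat.card K ^ d) (hd : 2 ∣ d) {n : ℕ} {ν : K} (hν : ν ^ 2 ≠ 1)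
    (hn : (Nat.card K + 1).Coprime n) (hνn : (orderOf ν).Coprime n) {p : K[X]} (hp : Irreducible p) (hm : p.Monic)
    (hpd : p.natDegree = 2) (hp0 : p.coeff 0 = ν⁻¹) {x : Matrix.SpecialLinearGroup (Fin 3) K}
    (hx : x.1.charpoly = (X - C ν) * p) : Ev (algebraMap K K') (E₁ (Nat.card K + 1) n) x := by
  have := Fintype.ofFinite K
  have hq : ν ^ (Nat.card K + 1) = ν ^ 2 := by
    rw [pow_succ, Nat.card_eq_fintype_card, FiniteField.pow_card, pow_two]
  have hdvd : (X - C ν) * p ∣ X ^ Nat.card K ^ d - X := by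
    refine IsCoprime.mul_dvd ?_ (dvd_lin ν d) (irr_dvd hp (by rw [hpd]; exact hd))
    refine (((irreducible_X_sub_C ν).coprime_iff_not_dvd).2 fun h => ?_)
    obtain ⟨c, hc⟩ := h
    rcases hp.isUnit_or_isUnit hc with h1 | h1
    · exact (irreducible_X_sub_C ν).not_isUnit h1
    · have h2 : p.natDegree = (X - C ν).natDegree + c.natDegree := by
        nth_rw 1 [hc]
        exact natDegree_mul (X_sub_C_ne_zero ν) h1.ne_zero
      rw [hpd, natDegree_X_sub_C, natDegree_eq_zero_of_isUnit h1] at h2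
      omega
  refine ev_of_dvd hK' (by rw [hx]; exact hdvd) fun lam h1 h2 h3 => ?_
  have key : ∀ a, (lam a = algebraMap K K' ν) ∨ lam a ^ (Nat.card K + 1) = algebraMap K K' ν⁻¹ := by
    intro a
    have h4 := h3 a
    rw [hx, Polynomial.map_mul, IsRoot.def, eval_mul, mul_eq_zero] at h4
    rcases h4 with h4 | h4
    · left
      rw [Polynomial.map_sub, Polynomial.map_X, Polynomial.map_C, eval_sub, eval_X, eval_C, sub_eq_zero] at h4
      exact h4
    · right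
      rw [norm_quad hp hm hpd h4, hp0]
  have hν1 : ν⁻¹ ≠ 1 := by
    intro h
    rw [inv_eq_one] at h
    exact hν (by rw [h, one_pow])
  refine ⟨h1, fun a => ?_, fun a h4 => ?_⟩
  · rcases key a with h4 | h4
    · rw [h4]
      refine Nat.Coprime.of_dvd_left (orderOf_dvd_of_pow_eq_one ?_) hνn
      rw [← map_pow, pow_orderOf_eq_one, map_one]
    · refine Nat.Coprime.of_dvd_left (orderOf_dvd_of_pow_eq_one (n := (Nat.card K + 1) * orderOf ν) ?_)
        (Nat.Coprime.mul_left hn hνn)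
      rw [pow_mul, h4, ← map_pow, inv_pow, pow_orderOf_eq_one, inv_one, map_one]
  · rcases key a with h5 | h5
    · rw [h5, ← map_pow, hq] at h4
      exact hν ((algebraMap K K').injective (by rw [h4, map_one]))
    · rw [h5] at h4
      exact hν1 ((algebraMap K K').injective (by rw [h4, map_one]))

/-- factors with prescribed characteristic polynomials -/
theorem exists_nu {ν : K} (hν0 : ν ≠ 0) {p : K[X]} (hm : p.Monic) (hpd : p.natDegree = 2) (hp0 : p.coeff 0 = ν⁻¹)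
    {A : Matrix.SpecialLinearGroup (Fin 3) K} (hA : ∀ c : K, A.1 ≠ Matrix.scalar (Fin 3) c) :
    ∃ x y : Matrix.SpecialLinearGroup (Fin 3) K, A = x * y ∧ x.1.charpoly = (X - C ν) * p ∧
      y.1.charpoly = (X - C ν) * p := by
  obtain ⟨x, y, h1, h2, -, c, -, h3⟩ := Cfsg.Agent.H962.PP.exists_mul (k := 1) A.1 (by rw [A.2]; exact one_ne_zero) hA
    (p := (X - C ν) * p) (f := p) ((monic_X_sub_C ν).mul hm)
    (by rw [(monic_X_sub_C ν).natDegree_mul hm, natDegree_X_sub_C, hpd])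
    (by
      rw [mul_coeff_zero, coeff_sub, coeff_X_zero, coeff_C_zero, zero_sub, hp0]
      exact mul_ne_zero (neg_ne_zero.2 hν0) (inv_ne_zero hν0)) hm hpd (by rw [hp0]; exact inv_ne_zero hν0)
  have hx : x.det = 1 := by
    rw [Matrix.det_eq_sign_charpoly_coeff, h2, mul_coeff_zero, coeff_sub, coeff_X_zero, coeff_C_zero, zero_sub, hp0,
      Fintype.card_fin]
    field_simp
    norm_num
  have hy : y.det = 1 := by
    have h4 := A.2
    rwa [h1, Matrix.det_mul, hx, one_mul] at h4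
  have hc : c = ν := by
    rw [Matrix.det_eq_sign_charpoly_coeff, h3, mul_coeff_zero, coeff_sub, coeff_X_zero, coeff_C_zero, zero_sub, hp0,
      Fintype.card_fin] at hy
    field_simp at hy
    linear_combination hy
  refine ⟨⟨x, hx⟩, ⟨y, hy⟩, Subtype.ext h1, h2, ?_⟩
  rw [← hc]
  exact hc ▸ h3

/-- `L * U` is one or not scalar -/
theorem lu_scalar {K : Type u} [Field K] {L U : Matrix.SpecialLinearGroup (Fin 3) K} (hL : L ∈ LT 3 K) (hU : U ∈ UT 3 K)
    (h : L * U ≠ 1) (c : K) : (L * U).1 ≠ Matrix.scalar (Fin 3) c := by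
  intro hc
  apply h
  have h1 : ((L * U : Matrix.SpecialLinearGroup (Fin 3) K) : Matrix (Fin 3) (Fin 3) K) 0 0 = 1 := by
    have h2 : ((L * U : Matrix.SpecialLinearGroup (Fin 3) K) : Matrix (Fin 3) (Fin 3) K) 0 0 =
        ∑ k, (L : Matrix (Fin 3) (Fin 3) K) 0 k * (U : Matrix (Fin 3) (Fin 3) K) k 0 := by
      rw [Matrix.SpecialLinearGroup.coe_mul, Matrix.mul_apply]
    have e1 : (U : Matrix (Fin 3) (Fin 3) K) 1 0 = 0 := hU.1 (i := 1) (j := 0) (by decide)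
    have e2 : (U : Matrix (Fin 3) (Fin 3) K) 2 0 = 0 := hU.1 (i := 2) (j := 0) (by decide)
    have e3 : (U : Matrix (Fin 3) (Fin 3) K) 0 0 = 1 := hU.2 0
    have e4 : (L : Matrix (Fin 3) (Fin 3) K) 0 0 = 1 := hL.2 0
    rw [h2, Fin.sum_univ_three, e1, e2, e3, e4]
    simp
  rw [hc, Matrix.scalar_apply, Matrix.diagonal_apply_eq] at h1
  apply Subtype.ext
  rw [hc, h1]
  simp

/-- a matrix which is not scalar -/
theorem exists_ns (K : Type u) [Field K] :
    ∃ A : Matrix.SpecialLinearGroup (Fin 3) K, ∀ c : K, A.1 ≠ Matrix.scalar (Fin 3) c := by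
  refine ⟨Matrix.SpecialLinearGroup.transvection (show (0 : Fin 3) ≠ 1 by decide) 1, fun c hc => ?_⟩
  have h1 := congrFun (congrFun hc 0) 1
  rw [Matrix.scalar_apply, Matrix.diagonal_apply_ne _ (by decide)] at h1
  simp [Matrix.SpecialLinearGroup.transvection, Matrix.transvection] at h1

/-- `L * U`, characteristic polynomials `(X - ν) p` -/
theorem p_nu (hK' : Nat.card K' = Nat.card K ^ d) (hd : 2 ∣ d) {n : ℕ} {ν : K} (hν0 : ν ≠ 0) (hν : ν ^ 2 ≠ 1)
    (hn : (Nat.card K + 1).Coprime n) (hνn : (orderOf ν).Coprime n) :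
    ∀ L ∈ LT 3 K, ∀ U ∈ UT 3 K, ∃ x y : Matrix.SpecialLinearGroup (Fin 3) K, L * U = x * y ∧
      Ev (algebraMap K K') (E₁ (Nat.card K + 1) n) x ∧ Ev (algebraMap K K') (E₁ (Nat.card K + 1) n) y := by
  intro L hL U hU
  obtain ⟨p, hm, hpd, hp0, hr⟩ := Cfsg.Agent.H166.Cov.exists_rootless (F := K) (d := 2) (by norm_num) (inv_ne_zero hν0)
  have hp : Irreducible p := by
    rw [hm.irreducible_iff_roots_eq_zero_of_degree_le_three (by omega) (by omega)]
    exact Multiset.eq_zero_of_forall_notMem fun x hx => hr x ((mem_roots hm.ne_zero).1 hx)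
  have key : ∀ z : Matrix.SpecialLinearGroup (Fin 3) K, z.1.charpoly = (X - C ν) * p →
      Ev (algebraMap K K') (E₁ (Nat.card K + 1) n) z := fun z hz => ev_nu hK' hd hν hn hνn hp hm hpd hp0 hz
  by_cases h : L * U = 1
  · obtain ⟨A, hA⟩ := exists_ns K
    obtain ⟨x, y, -, h1, -⟩ := exists_nu hν0 hm hpd hp0 hA
    exact ⟨x, x⁻¹, by rw [h, mul_inv_cancel], key x h1, ev_inv (fun lam => E₁_inv) (key x h1)⟩
  · obtain ⟨x, y, h0, h1, h2⟩ := exists_nu hν0 hm hpd hp0 (lu_scalar hL hU h)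
    exact ⟨x, y, h0, key x h1, key y h2⟩

end

end Cfsg.Agent.H85.Pw
end
end

-- part: H85/Pw/ESix_mg
section
prune_inst 0x2e202000000000000200010000000000003080041000000040080000980062010800200120080010000000000000010000000000000000040000000000002061000a008440008000000000000000000000000000000000000000000000000000
set_option linter.all false
open scoped Cfsg.Agent.FastGrp
attribute [local instance] Cfsg.Agent.TitsThree.RTFast.decRTb Cfsg.Agent.TitsThree.RTFast.decRTc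

-- part: H85/Pw/ESix
section
/-!
# `E_8(q)`, `E_7(q)`, `q` a power of `2` or `3`: products of two elements of order prime to `6` (S2465)

* `six_E8` : `q ≠ 2, 3, 4, 9`;  `six_E7` : `q ≠ 2, 3, 4, 8, 9`.
-/

set_option autoImplicit false

namespace Cfsg.Agent.H85.Pw

open Cfsg.Lie Cfsg.Agent.H78.Pw

universe u

/-! ### Arithmetic -/

theorem geom_mul (q m : ℕ) (hq : 1 ≤ q) : (q - 1) * ∑ a ∈ Finset.range m, q ^ a = q ^ m - 1 := by
  induction m with
  | zero => simp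
  | succ m ih =>
    rw [Finset.sum_range_succ, mul_add, ih, pow_succ]
    have h1 : 1 ≤ q ^ m := Nat.one_le_pow _ _ hq
    obtain ⟨k, rfl⟩ : ∃ k, q = k + 1 := ⟨q - 1, by omega⟩
    rw [Nat.add_sub_cancel]
    have h2 : 1 ≤ (k + 1) ^ m := h1
    have h3 : (k + 1) ^ m * (k + 1) = k * (k + 1) ^ m + (k + 1) ^ m := by ring
    omega

theorem coprime_six {n : ℕ} (h2 : n % 2 = 1) (h3 : n % 3 ≠ 0) : n.Coprime 6 := by
  have e : (6 : ℕ) = 2 * 3 := by norm_num
  rw [e]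
  refine Nat.Coprime.mul_right ?_ ?_
  · rw [Nat.coprime_comm, Nat.Prime.coprime_iff_not_dvd Nat.prime_two]
    omega
  · rw [Nat.coprime_comm, Nat.Prime.coprime_iff_not_dvd Nat.prime_three]
    omega

theorem sum7_coprime (q : ℕ) : (∑ a ∈ Finset.range 7, q ^ a).Coprime 6 := by
  have h : ∀ k : ℕ, (∑ a ∈ Finset.range 7, q ^ a) % k = (∑ a ∈ Finset.range 7, (q % k) ^ a) % k := by
    intro k
    rw [Finset.sum_nat_mod, Finset.sum_nat_mod (s := Finset.range 7) (f := fun a => (q % k) ^ a)]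
    congr 1
    refine Finset.sum_congr rfl fun a _ => ?_
    exact (Nat.pow_mod q a k)
  refine coprime_six ?_ ?_
  · rw [h 2]
    have : q % 2 < 2 := Nat.mod_lt _ (by norm_num)
    interval_cases q % 2 <;> decide
  · rw [h 3]
    have : q % 3 < 3 := Nat.mod_lt _ (by norm_num)
    interval_cases q % 3 <;> decide

/-- powers of two with `q - 1` a power of three -/
theorem two_three {a j : ℕ} (h : 2 ^ a = 3 ^ j + 1) : a ≤ 2 := by
  by_contra ha
  push Not at ha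
  have h1 : 8 ∣ 3 ^ j + 1 := by
    rw [← h]
    exact (pow_dvd_pow 2 ha : 2 ^ 3 ∣ 2 ^ a)
  have h2 : 3 ^ j % 8 = 1 ∨ 3 ^ j % 8 = 3 := by
    clear h h1
    induction j with
    | zero => left; rfl
    | succ j ih => rw [pow_succ]; omega
  omega

/-- powers of three with `q - 1` a power of two -/
theorem three_two {a i : ℕ} (h : 3 ^ a = 2 ^ i + 1) : a ≤ 2 := by
  by_contra ha
  push Not at ha
  have h0 : 27 ≤ 3 ^ a := by
    calc 27 = 3 ^ 3 := by norm_num
      _ ≤ 3 ^ a := Nat.pow_le_pow_right (by norm_num) ha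
  have hi : 4 ≤ i := by
    by_contra hi
    push Not at hi
    have : 2 ^ i ≤ 2 ^ 3 := Nat.pow_le_pow_right (by norm_num) (by omega)
    omega
  have h1 : 16 ∣ 2 ^ i := (pow_dvd_pow 2 hi : 2 ^ 4 ∣ 2 ^ i)
  have h2 : ∀ a : ℕ, (3 ^ a % 80 = 1 ∨ 3 ^ a % 80 = 3 ∨ 3 ^ a % 80 = 9 ∨ 3 ^ a % 80 = 27) := by
    intro a
    induction a with
    | zero => left; rfl
    | succ j ih => rw [pow_succ]; omega
  have h3 : 3 ^ a % 80 = 1 := by
    have := h2 a
    omega
  have h4 : 5 ∣ 2 ^ i := by omega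
  have h5 := Nat.Prime.dvd_of_dvd_pow Nat.prime_five h4
  omega

/-- a divisor prime to `6` -/
theorem exists_c {q a : ℕ} (h : q = 2 ^ a ∨ q = 3 ^ a) (ha : a ≠ 0) (h2 : q ≠ 2) (h3 : q ≠ 3) (h4 : q ≠ 4) (h9 : q ≠ 9) :
    ∃ c, 1 < c ∧ c ∣ q - 1 ∧ c.Coprime 6 := by
  have hq : 2 ≤ q := by
    rcases h with h | h
    · rw [h]
      calc 2 = 2 ^ 1 := by norm_num
        _ ≤ 2 ^ a := Nat.pow_le_pow_right (by norm_num) (by omega)
    · rw [h]
      calc 2 ≤ 3 ^ 1 := by norm_num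
        _ ≤ 3 ^ a := Nat.pow_le_pow_right (by norm_num) (by omega)
  rcases h with h | h
  · -- the part prime to 3
    have hn : q - 1 ≠ 0 := by omega
    have hodd : (q - 1) % 2 = 1 := by
      have : q % 2 = 0 := by
        rw [h]
        obtain ⟨b, rfl⟩ := Nat.exists_eq_succ_of_ne_zero ha
        rw [pow_succ]
        omega
      omega
    refine ⟨ordCompl[3] (q - 1), ?_, Nat.ordCompl_dvd _ _, ?_⟩
    · have h5 : 0 < ordCompl[3] (q - 1) := Nat.ordCompl_pos 3 hn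
      by_contra hc
      have h6 : ordCompl[3] (q - 1) = 1 := by omega
      have h7 := Nat.ordProj_mul_ordCompl_eq_self (q - 1) 3
      rw [h6, mul_one] at h7
      have h8 := two_three (a := a) (j := (q - 1).factorization 3) (by rw [h7, ← h]; omega)
      interval_cases a <;> simp_all
    · refine coprime_six ?_ ?_
      · have h5 := Nat.ordProj_mul_ordCompl_eq_self (q - 1) 3
        by_contra h6
        have h7 : ordCompl[3] (q - 1) % 2 = 0 := by omega
        have h8 : 2 ∣ q - 1 := by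
          rw [← h5]
          exact Dvd.dvd.mul_left (Nat.dvd_of_mod_eq_zero h7) _
        omega
      · intro h5
        exact Nat.not_dvd_ordCompl Nat.prime_three hn (Nat.dvd_of_mod_eq_zero h5)
  · have hn : q - 1 ≠ 0 := by omega
    have hthree : (q - 1) % 3 = 2 := by
      have : q % 3 = 0 := by
        rw [h]
        obtain ⟨b, rfl⟩ := Nat.exists_eq_succ_of_ne_zero ha
        rw [pow_succ]
        omega
      omega
    refine ⟨ordCompl[2] (q - 1), ?_, Nat.ordCompl_dvd _ _, ?_⟩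
    · have h5 : 0 < ordCompl[2] (q - 1) := Nat.ordCompl_pos 2 hn
      by_contra hc
      have h6 : ordCompl[2] (q - 1) = 1 := by omega
      have h7 := Nat.ordProj_mul_ordCompl_eq_self (q - 1) 2
      rw [h6, mul_one] at h7
      have h8 := three_two (a := a) (i := (q - 1).factorization 2) (by rw [h7, ← h]; omega)
      interval_cases a <;> simp_all
    · refine coprime_six ?_ ?_
      · have h5 := Nat.not_dvd_ordCompl Nat.prime_two hn
        omega
      · intro h5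
        have h7 := Nat.ordProj_mul_ordCompl_eq_self (q - 1) 2
        have h8 : 3 ∣ q - 1 := by
          rw [← h7]
          exact Dvd.dvd.mul_left (Nat.dvd_of_mod_eq_zero h5) _
        omega

/-! ### `E_8` -/

/-- `E_8(q)`, given a divisor of `q - 1` prime to `6` -/
theorem six_E8_of (K : Type u) [Field K] [Finite K] {c : ℕ} (h1 : 1 < c) (hc : c ∣ Nat.card K - 1) (h6 : c.Coprime 6) :
    All 6 ↥(chevE8.group K) := by
  have hq2 : 2 ≤ Nat.card K := Finite.one_lt_card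
  have hq : 3 ≤ Nat.card K := by
    have := Nat.le_of_dvd (by omega) hc
    omega
  have hpos : 0 < ∑ a ∈ Finset.range 7, Nat.card K ^ a :=
    Finset.sum_pos (fun a _ => pow_pos (by omega) a) ⟨0, by simp⟩
  refine all_of_pairs (N := c * ∑ a ∈ Finset.range 7, Nat.card K ^ a) (Nat.Coprime.mul_left h6 (sum7_coprime _))
    (pairs_E8 K hq ?_ ?_)
  · rw [← geom_mul _ 7 (by omega)]
    exact Nat.mul_dvd_mul hc (dvd_refl _)
  · calc ∑ a ∈ Finset.range 7, Nat.card K ^ a = 1 * ∑ a ∈ Finset.range 7, Nat.card K ^ a := (one_mul _).symm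
      _ < c * ∑ a ∈ Finset.range 7, Nat.card K ^ a := Nat.mul_lt_mul_of_pos_right h1 hpos

theorem card_pow (K : Type u) [Field K] [Finite K] (p : ℕ) [CharP K p] : ∃ a, a ≠ 0 ∧ Nat.card K = p ^ a := by
  have := Fintype.ofFinite K
  obtain ⟨n, hp, hn⟩ := FiniteField.card K p
  exact ⟨n, n.ne_zero, by rw [Nat.card_eq_fintype_card, hn]⟩

/-- **`E_8(q)`, `q` a power of `2` or `3`, `q ≠ 2, 3, 4, 9`.** -/
theorem six_E8 (K : Type u) [Field K] [Finite K] (hch : CharP K 2 ∨ CharP K 3) (h2 : Nat.card K ≠ 2)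
    (h3 : Nat.card K ≠ 3) (h4 : Nat.card K ≠ 4) (h9 : Nat.card K ≠ 9) : All 6 ↥(chevE8.group K) := by
  have h : ∃ a, a ≠ 0 ∧ (Nat.card K = 2 ^ a ∨ Nat.card K = 3 ^ a) := by
    rcases hch with h | h
    · obtain ⟨a, ha, e⟩ := card_pow K 2
      exact ⟨a, ha, Or.inl e⟩
    · obtain ⟨a, ha, e⟩ := card_pow K 3
      exact ⟨a, ha, Or.inr e⟩
  obtain ⟨a, ha, h⟩ := h
  obtain ⟨c, h5, h6, h7⟩ := exists_c h ha h2 h3 h4 h9
  exact six_E8_of K h5 h6 h7

/-! ### `E_7` -/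

theorem three_pow_le (n : ℕ) : 1 ≤ n → ∀ v, 3 ^ v ∣ 4 ^ n - 1 → 3 ^ v ≤ 3 * n := by
  induction n using Nat.strong_induction_on with
  | _ n ih =>
    intro hn v hv
    by_cases h3 : n % 3 = 0
    · obtain ⟨m, rfl⟩ : ∃ m, n = 3 * m := ⟨n / 3, by omega⟩
      rcases v with _ | w
      · omega
      · have hx : 1 ≤ 4 ^ m := Nat.one_le_pow _ _ (by norm_num)
        have h4 : 4 ^ m % 9 = 1 ∨ 4 ^ m % 9 = 4 ∨ 4 ^ m % 9 = 7 := by
          clear ih hn hv h3 hx
          induction m with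
          | zero => left; rfl
          | succ j ih => rw [pow_succ]; omega
        obtain ⟨x, hxe⟩ : ∃ x, x = 4 ^ m := ⟨_, rfl⟩
        have h5 : 4 ^ (3 * m) - 1 = (x - 1) * (x * x + x + 1) := by
          rw [mul_comm 3 m, pow_mul, ← hxe]
          rw [← hxe] at hx
          obtain ⟨y, rfl⟩ : ∃ y, x = y + 1 := ⟨x - 1, by omega⟩
          rw [Nat.add_sub_cancel]
          have : (y + 1) ^ 3 = y * ((y + 1) * (y + 1) + (y + 1) + 1) + 1 := by ring
          omega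
        rw [← hxe] at h4
        have h6 : ∃ k, x * x + x + 1 = 3 * k ∧ k % 3 ≠ 0 := by
          have h7 : (x * x + x + 1) % 9 = 3 := by
            have h8 : (x * x) % 9 = (x % 9) * (x % 9) % 9 := Nat.mul_mod x x 9
            rcases h4 with h | h | h <;> rw [h] at h8 <;> omega
          exact ⟨(x * x + x + 1) / 3, by omega, by omega⟩
        obtain ⟨k, hk, hk3⟩ := h6
        rw [h5, hk, pow_succ, mul_comm (3 ^ w) 3, mul_left_comm] at hv
        have h8 : 3 ^ w ∣ (x - 1) * k := Nat.dvd_of_mul_dvd_mul_left (by norm_num) hv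
        have h9 : (3 ^ w).Coprime k := by
          refine Nat.Coprime.pow_left w ?_
          rw [Nat.Prime.coprime_iff_not_dvd Nat.prime_three]
          omega
        have h10 : 3 ^ w ∣ 4 ^ m - 1 := by
          rw [← hxe]
          exact h9.dvd_of_dvd_mul_right h8
        have h11 := ih m (by omega) (by omega) w h10
        rw [pow_succ]
        omega
    · have h5 := geom_mul 4 n (by norm_num)
      have h6 : (∑ a ∈ Finset.range n, 4 ^ a) % 3 = n % 3 := by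
        clear ih hn hv h3 h5
        induction n with
        | zero => rfl
        | succ j ih =>
          rw [Finset.sum_range_succ]
          have : 4 ^ j % 3 = 1 := by
            clear ih
            induction j with
            | zero => rfl
            | succ i ih => rw [pow_succ]; omega
          omega
      rw [← h5] at hv
      have h7 : (3 ^ v).Coprime (∑ a ∈ Finset.range n, 4 ^ a) := by
        refine Nat.Coprime.pow_left v ?_
        rw [Nat.Prime.coprime_iff_not_dvd Nat.prime_three]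
        omega
      have h8 : 3 ^ v ∣ 3 := h7.dvd_of_dvd_mul_right hv
      have := Nat.le_of_dvd (by norm_num) h8
      omega

theorem two_pow_le (n : ℕ) : 1 ≤ n → ∀ v, 2 ^ v ∣ 9 ^ n - 1 → 2 ^ v ≤ 8 * n := by
  induction n using Nat.strong_induction_on with
  | _ n ih =>
    intro hn v hv
    by_cases h3 : n % 2 = 0
    · obtain ⟨m, rfl⟩ : ∃ m, n = 2 * m := ⟨n / 2, by omega⟩
      rcases v with _ | w
      · omega
      · have hx : 1 ≤ 9 ^ m := Nat.one_le_pow _ _ (by norm_num)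
        have h4 : 9 ^ m % 4 = 1 := by
          clear ih hn hv h3 hx
          induction m with
          | zero => rfl
          | succ j ih => rw [pow_succ]; omega
        obtain ⟨x, hxe⟩ : ∃ x, x = 9 ^ m := ⟨_, rfl⟩
        have h5 : 9 ^ (2 * m) - 1 = (x - 1) * (x + 1) := by
          rw [mul_comm 2 m, pow_mul, ← hxe]
          rw [← hxe] at hx
          obtain ⟨y, rfl⟩ : ∃ y, x = y + 1 := ⟨x - 1, by omega⟩
          rw [Nat.add_sub_cancel]
          have : (y + 1) ^ 2 = y * ((y + 1) + 1) + 1 := by ring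
          omega
        rw [← hxe] at h4
        obtain ⟨k, hk, hk2⟩ : ∃ k, x + 1 = 2 * k ∧ k % 2 ≠ 0 := ⟨(x + 1) / 2, by omega, by omega⟩
        rw [h5, hk, pow_succ, mul_comm (2 ^ w) 2, mul_left_comm] at hv
        have h8 : 2 ^ w ∣ (x - 1) * k := Nat.dvd_of_mul_dvd_mul_left (by norm_num) hv
        have h9 : (2 ^ w).Coprime k := by
          refine Nat.Coprime.pow_left w ?_
          rw [Nat.Prime.coprime_iff_not_dvd Nat.prime_two]
          omega
        have h10 : 2 ^ w ∣ 9 ^ m - 1 := by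
          rw [← hxe]
          exact h9.dvd_of_dvd_mul_right h8
        have h11 := ih m (by omega) (by omega) w h10
        rw [pow_succ]
        omega
    · have h5 := geom_mul 9 n (by norm_num)
      have h6 : (∑ a ∈ Finset.range n, 9 ^ a) % 2 = n % 2 := by
        clear ih hn hv h3 h5
        induction n with
        | zero => rfl
        | succ j ih =>
          rw [Finset.sum_range_succ]
          have : 9 ^ j % 2 = 1 := by
            clear ih
            induction j with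
            | zero => rfl
            | succ i ih => rw [pow_succ]; omega
          omega
      rw [← h5] at hv
      have h7 : (2 ^ v).Coprime (∑ a ∈ Finset.range n, 9 ^ a) := by
        refine Nat.Coprime.pow_left v ?_
        rw [Nat.Prime.coprime_iff_not_dvd Nat.prime_two]
        omega
      have h8 : 2 ^ v ∣ 8 := h7.dvd_of_dvd_mul_right hv
      have := Nat.le_of_dvd (by norm_num) h8
      omega

theorem lt_two_pow {a : ℕ} (ha : 6 ≤ a) : 9 * a + 1 < 2 ^ a := by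
  induction a, ha using Nat.le_induction with
  | base => norm_num
  | succ k hk ih => rw [pow_succ]; omega

theorem lt_three_pow {a : ℕ} (ha : 5 ≤ a) : 24 * a + 1 < 3 ^ a := by
  induction a, ha using Nat.le_induction with
  | base => norm_num
  | succ k hk ih => rw [pow_succ]; omega

/-- the order of the class -/
theorem exists_N {q a : ℕ} (h : q = 2 ^ a ∧ 4 ≤ a ∨ q = 3 ^ a ∧ 3 ≤ a) :
    ∃ N, N ∣ q ^ 6 - 1 ∧ ∑ a ∈ Finset.range 6, q ^ a < N ∧ N.Coprime 6 := by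
  have key : ∀ B N : ℕ, 2 ≤ q → B * N = q ^ 6 - 1 → B < q - 1 → ∑ a ∈ Finset.range 6, q ^ a < N := by
    intro B N hq2 hBN hB
    have h1 := geom_mul q 6 (by omega)
    by_contra h2
    push Not at h2
    have h3 : 0 < q ^ 6 - 1 := by
      have : 2 ^ 6 ≤ q ^ 6 := Nat.pow_le_pow_left hq2 6
      omega
    have h4 : 0 < N := Nat.pos_of_ne_zero fun h => by rw [h, mul_zero] at hBN; omega
    have h5 : B * N < (q - 1) * ∑ a ∈ Finset.range 6, q ^ a :=
      lt_of_lt_of_le (Nat.mul_lt_mul_of_pos_right hB h4) (Nat.mul_le_mul_left _ h2)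
    omega
  rcases h with ⟨h, ha⟩ | ⟨h, ha⟩
  · have hq : 16 ≤ q := by
      rw [h]
      calc 16 = 2 ^ 4 := by norm_num
        _ ≤ 2 ^ a := Nat.pow_le_pow_right (by norm_num) ha
    have hq0 : q % 2 = 0 := by
      rw [h]
      obtain ⟨b, rfl⟩ := Nat.exists_eq_add_of_le ha
      rw [pow_add]
      omega
    have hn : q ^ 6 - 1 ≠ 0 := by
      have : 16 ^ 6 ≤ q ^ 6 := Nat.pow_le_pow_left hq 6
      omega
    have hodd : (q ^ 6 - 1) % 2 = 1 := by
      have : q ^ 6 % 2 = 0 := by rw [Nat.pow_mod, hq0]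
      omega
    have h0 := Nat.ordProj_mul_ordCompl_eq_self (q ^ 6 - 1) 3
    refine ⟨ordCompl[3] (q ^ 6 - 1), Nat.ordCompl_dvd _ _, key _ _ (by omega) h0 ?_, ?_⟩
    · rcases Nat.lt_or_ge a 6 with h6 | h6
      · have hle : ∀ v, 3 ^ v ∣ q ^ 6 - 1 → v ≤ 2 := by
          intro v hv
          by_contra hc
          push Not at hc
          have h7 : 3 ^ 3 ∣ q ^ 6 - 1 := (pow_dvd_pow 3 hc).trans hv
          rw [h] at h7
          interval_cases a
          · revert h7; decide +kernel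
          · revert h7; decide +kernel
        have h7 := hle _ (Nat.ordProj_dvd (q ^ 6 - 1) 3)
        calc ordProj[3] (q ^ 6 - 1) ≤ 3 ^ 2 := Nat.pow_le_pow_right (by norm_num) h7
          _ < q - 1 := by omega
      · have e1 : q ^ 6 - 1 = 4 ^ (3 * a) - 1 := by
          rw [h, ← pow_mul, show (4 : ℕ) = 2 ^ 2 by norm_num, ← pow_mul]
          congr 2
          ring
        have h7 : ordProj[3] (q ^ 6 - 1) ≤ 3 * (3 * a) :=
          three_pow_le (3 * a) (by omega) _ (by rw [← e1]; exact Nat.ordProj_dvd (q ^ 6 - 1) 3)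
        have h8 : 9 * a + 1 < q := h ▸ lt_two_pow h6
        calc ordProj[3] (q ^ 6 - 1) ≤ 3 * (3 * a) := h7
          _ < q - 1 := by omega
    · refine coprime_six ?_ ?_
      · by_contra h6
        have h7 : ordCompl[3] (q ^ 6 - 1) % 2 = 0 := by omega
        have h8 : 2 ∣ q ^ 6 - 1 := by
          rw [← h0]
          exact Dvd.dvd.mul_left (Nat.dvd_of_mod_eq_zero h7) _
        omega
      · intro h5
        exact Nat.not_dvd_ordCompl Nat.prime_three hn (Nat.dvd_of_mod_eq_zero h5)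
  · have hq : 27 ≤ q := by
      rw [h]
      calc 27 = 3 ^ 3 := by norm_num
        _ ≤ 3 ^ a := Nat.pow_le_pow_right (by norm_num) ha
    have hq0 : q % 3 = 0 := by
      rw [h]
      obtain ⟨b, rfl⟩ := Nat.exists_eq_add_of_le ha
      rw [pow_add]
      omega
    have hn : q ^ 6 - 1 ≠ 0 := by
      have : 27 ^ 6 ≤ q ^ 6 := Nat.pow_le_pow_left hq 6
      omega
    have hthree : (q ^ 6 - 1) % 3 = 2 := by
      have : q ^ 6 % 3 = 0 := by rw [Nat.pow_mod, hq0]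
      have : 27 ^ 6 ≤ q ^ 6 := Nat.pow_le_pow_left hq 6
      omega
    have h0 := Nat.ordProj_mul_ordCompl_eq_self (q ^ 6 - 1) 2
    refine ⟨ordCompl[2] (q ^ 6 - 1), Nat.ordCompl_dvd _ _, key _ _ (by omega) h0 ?_, ?_⟩
    · rcases Nat.lt_or_ge a 5 with h6 | h6
      · interval_cases a
        · have hle : ∀ v, 2 ^ v ∣ q ^ 6 - 1 → v ≤ 3 := by
            intro v hv
            by_contra hc
            push Not at hc
            have h7 : 2 ^ 4 ∣ q ^ 6 - 1 := (pow_dvd_pow 2 hc).trans hv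
            rw [h] at h7
            revert h7; decide +kernel
          have h7 := hle _ (Nat.ordProj_dvd (q ^ 6 - 1) 2)
          calc ordProj[2] (q ^ 6 - 1) ≤ 2 ^ 3 := Nat.pow_le_pow_right (by norm_num) h7
            _ < q - 1 := by omega
        · have hle : ∀ v, 2 ^ v ∣ q ^ 6 - 1 → v ≤ 5 := by
            intro v hv
            by_contra hc
            push Not at hc
            have h7 : 2 ^ 6 ∣ q ^ 6 - 1 := (pow_dvd_pow 2 hc).trans hv
            rw [h] at h7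
            revert h7; decide +kernel
          have h7 := hle _ (Nat.ordProj_dvd (q ^ 6 - 1) 2)
          calc ordProj[2] (q ^ 6 - 1) ≤ 2 ^ 5 := Nat.pow_le_pow_right (by norm_num) h7
            _ < q - 1 := by rw [h]; norm_num
      · have e1 : q ^ 6 - 1 = 9 ^ (3 * a) - 1 := by
          rw [h, ← pow_mul, show (9 : ℕ) = 3 ^ 2 by norm_num, ← pow_mul]
          congr 2
          ring
        have h7 : ordProj[2] (q ^ 6 - 1) ≤ 8 * (3 * a) :=
          two_pow_le (3 * a) (by omega) _ (by rw [← e1]; exact Nat.ordProj_dvd (q ^ 6 - 1) 2)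
        have h8 : 24 * a + 1 < q := h ▸ lt_three_pow h6
        calc ordProj[2] (q ^ 6 - 1) ≤ 8 * (3 * a) := h7
          _ < q - 1 := by omega
    · refine coprime_six ?_ ?_
      · have h5 := Nat.not_dvd_ordCompl Nat.prime_two hn
        omega
      · intro h5
        have h8 : 3 ∣ q ^ 6 - 1 := by
          rw [← h0]
          exact Dvd.dvd.mul_left (Nat.dvd_of_mod_eq_zero h5) _
        omega

/-- **`E_7(q)`, `q` a power of `2` or `3`, `q ≠ 2, 3, 4, 8, 9`.** -/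
theorem six_E7 (K : Type u) [Field K] [Finite K] (hch : CharP K 2 ∨ CharP K 3) (h2 : Nat.card K ≠ 2)
    (h3 : Nat.card K ≠ 3) (h4 : Nat.card K ≠ 4) (h8 : Nat.card K ≠ 8) (h9 : Nat.card K ≠ 9) :
    All 6 ↥(chevE7.group K) := by
  have h : ∃ a, Nat.card K = 2 ^ a ∧ 4 ≤ a ∨ Nat.card K = 3 ^ a ∧ 3 ≤ a := by
    rcases hch with h | h
    · obtain ⟨a, ha, e⟩ := card_pow K 2
      refine ⟨a, Or.inl ⟨e, ?_⟩⟩
      by_contra hc
      push Not at hc
      interval_cases a <;> simp_all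
    · obtain ⟨a, ha, e⟩ := card_pow K 3
      refine ⟨a, Or.inr ⟨e, ?_⟩⟩
      by_contra hc
      push Not at hc
      interval_cases a <;> simp_all
  obtain ⟨a, h⟩ := h
  obtain ⟨N, h5, h6, h7⟩ := exists_N h
  have hq : 3 ≤ Nat.card K := by
    have : 2 ≤ Nat.card K := Finite.one_lt_card
    omega
  exact all_of_pairs h7 (pairs_E7 K hq h5 h6)

end Cfsg.Agent.H85.Pw
end

-- part: H144/OreF4/Lin
section
/-!
# Matrices of degree three with irreducible characteristic polynomial (S2443, S4171)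

* `M3 K` : every product of a lower and an upper unitriangular matrix is a product of two such matrices;
* `exists_gc` : same irreducible characteristic polynomial implies conjugate;
* `exists_ext` : diagonalization over an extension, the eigenvalues are not in `K`.
-/

set_option autoImplicit false

namespace Cfsg.Agent.H144.OreF4

open Matrix Polynomial Cfsg.Agent.H162.GaussSL Cfsg.Agent.H162.GaussReg

universe u

theorem exists_gc {K : Type u} [Field K] {n : ℕ} {X Y : SpecialLinearGroup (Fin n) K}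
    (hX : Irreducible X.1.charpoly) (h : Y.1.charpoly = X.1.charpoly) : ∃ g : GL (Fin n) K, gc g X = Y := by
  have h1 := Cfsg.Agent.H193.SsConj.isConj_of_charpoly (F := K) (X : GL (Fin n) K) (Y : GL (Fin n) K)
    X.1.charpoly hX.squarefree (aeval_self_charpoly X.1) (by rw [← h]; exact aeval_self_charpoly Y.1) h.symm
  obtain ⟨g, hg⟩ := isConj_iff.1 h1
  refine ⟨g, Subtype.ext ?_⟩
  exact congrArg (fun z : GL (Fin n) K => z.1) hg

theorem exists_ext {K : Type u} [Field K] [Finite K] {X : SpecialLinearGroup (Fin 3) K}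
    (hX : Irreducible X.1.charpoly) : ∃ (K' : Type u) (_ : Field K') (_ : Finite K') (f : K →+* K')
      (lam : Fin 3 → K') (g : GL (Fin 3) K'), (∀ a c, lam a ≠ f c) ∧
      (X : Matrix (Fin 3) (Fin 3) K).map f = (g : Matrix (Fin 3) (Fin 3) K') * diagonal lam *
        ((g⁻¹ : GL (Fin 3) K') : Matrix (Fin 3) (Fin 3) K') := by
  have : Fintype K := Fintype.ofFinite K
  have hf : Fact (Irreducible X.1.charpoly) := ⟨hX⟩
  have hmon := X.1.charpoly_monic
  have hfd : Module.Finite K (AdjoinRoot X.1.charpoly) := hmon.finite_adjoinRoot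
  have hfin : Finite (AdjoinRoot X.1.charpoly) := Module.finite_of_finite K
  have hmin : minpoly K (AdjoinRoot.root X.1.charpoly) = X.1.charpoly := by
    rw [AdjoinRoot.minpoly_root hX.ne_zero, hmon.leadingCoeff, inv_one, C_1, mul_one]
  have hdeg : (minpoly K (AdjoinRoot.root X.1.charpoly)).natDegree = 3 := by
    rw [hmin, charpoly_natDegree_eq_dim, Fintype.card_fin]
  obtain ⟨g, hg⟩ := Cfsg.Agent.H934.MF.diag_irr hdeg X.1 hmin.symm
  refine ⟨AdjoinRoot X.1.charpoly, inferInstance, hfin, algebraMap K _, _, g, fun a c h => ?_, hg⟩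
  have h1 := Cfsg.Agent.H934.MF.root_pow (K := K) (minpoly.aeval K (AdjoinRoot.root X.1.charpoly)) (a : ℕ)
  rw [h, hmin, aeval_algebraMap_apply, map_eq_zero_iff _ (algebraMap K (AdjoinRoot X.1.charpoly)).injective,
    coe_aeval_eq_eval] at h1
  have h2 := degree_eq_one_of_irreducible_of_root hX h1
  rw [degree_eq_natDegree hX.ne_zero, charpoly_natDegree_eq_dim, Fintype.card_fin] at h2
  exact absurd h2 (by decide)

end Cfsg.Agent.H144.OreF4
end

-- part: H144/OreF4/Row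
section
/-!
# The rows with one block of type `A_2` and an element `s₀` of the torus (S2443, S4171)

`c₁ = s₀ φ(X)`, `c₂ = s₀⁻¹ φ(Y)`; `X`, `Y` with irreducible characteristic polynomials.

* `Six` : the weights of the natural module of `SL₃` and its dual;
* `nf3` : no fixed points of `s₀ φ(X)` outside `J`;
* `gl3` : conjugation by `GL₃` commuting with `s₀`;
* `R3` : the data of a row; `R3.allC`, `R3.inv4`.
-/

set_option autoImplicit false
set_option linter.unusedSectionVars false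

namespace Cfsg.Agent.H144.OreF4

open CoxeterSystem Cfsg.Agent.ChevalleyStructure.CoxeterGeom Cfsg.Agent.Tits.Roots Cfsg.Agent.Tits.Core
  Cfsg.Agent.Nodes.Reps Cfsg.Agent.Nodes.BNOf Cfsg.Agent.Nodes.RGDLib Cfsg.Agent.Nodes.Bruhat
  Cfsg.Agent.Nodes.OppDec Cfsg.Agent.Nodes.LeviDec Cfsg.Agent.Nodes.KindChev Cfsg.Agent.Nodes.ChevCls
  Cfsg.Agent.OddHalf.NI.ModelChev
  Cfsg.Agent.H162.GaussDec Cfsg.Agent.H162.GaussLevi Cfsg.Agent.H162.GaussSL Cfsg.Agent.H162.GaussReg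
  Cfsg.Agent.H162.GaussMain Cfsg.Agent.H162.GaussPQ Cfsg.Agent.H162.GaussExc
open Cfsg.Lie Cfsg.Agent.ChevalleyStructure Cfsg.Agent.ChevalleyStructure.Elts
  Cfsg.Agent.ChevalleyStructure.RootVec Cfsg.Agent.ChevalleyStructure.NPerm
  Cfsg.Agent.ChevalleyStructure.CoxeterGeomTypes Cfsg.Agent.Nodes.RGDChev Cfsg.Agent.KFacts.RgdChevCoord
open Cfsg.Agent.H928.Ore.Frame Cfsg.Agent.H482.Ore.Fix Cfsg.Agent.H777.Ore Matrix

universe u

/-- the weights of the natural module of `SL₃` and of its dual -/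
def Six (c₀ c₁ : ℤ) : Prop :=
  (c₀ = 1 ∧ c₁ = 0) ∨ (c₀ = -1 ∧ c₁ = 1) ∨ (c₀ = 0 ∧ c₁ = -1) ∨ (c₀ = -1 ∧ c₁ = 0) ∨ (c₀ = 1 ∧ c₁ = -1) ∨
    (c₀ = 0 ∧ c₁ = 1)

instance (c₀ c₁ : ℤ) : Decidable (Six c₀ c₁) := by unfold Six; infer_instance

theorem Six.prod {L : Type*} [Field L] {lam : Fin 3 → L} (hl : ∏ b, lam b = 1) {c₀ c₁ : ℤ} (h : Six c₀ c₁) :
    ∃ b, lam 0 ^ (c₀ + c₁) * lam 1 ^ c₁ = lam b ∨ lam 0 ^ (c₀ + c₁) * lam 1 ^ c₁ = (lam b)⁻¹ := by
  rw [Fin.prod_univ_three] at hl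
  have h2 : lam 2 ≠ 0 := right_ne_zero_of_mul_eq_one hl
  have h01 : lam 0 * lam 1 ≠ 0 := left_ne_zero_of_mul_eq_one hl
  have h0 : lam 0 ≠ 0 := left_ne_zero_of_mul h01
  have h1 : lam 1 ≠ 0 := right_ne_zero_of_mul h01
  rcases h with ⟨rfl, rfl⟩ | ⟨rfl, rfl⟩ | ⟨rfl, rfl⟩ | ⟨rfl, rfl⟩ | ⟨rfl, rfl⟩ | ⟨rfl, rfl⟩
  · exact ⟨0, Or.inl (by simp)⟩
  · exact ⟨1, Or.inl (by simp)⟩
  · refine ⟨2, Or.inl ?_⟩
    rw [zero_add, _root_.zpow_neg_one, _root_.zpow_neg_one, ← mul_inv]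
    exact inv_eq_of_mul_eq_one_right hl
  · exact ⟨0, Or.inr (by simp)⟩
  · exact ⟨1, Or.inr (by simp)⟩
  · refine ⟨2, Or.inr ?_⟩
    rw [zero_add, zpow_one, zpow_one]
    exact eq_inv_of_mul_eq_one_left hl

variable {D : ChevalleyDatum} {l : ℕ} {M : CoxeterMatrix (Fin l)} (hp : IsType D l M) {K : Type u} [Field K]

/-- the tables of a block of type `A_2` with node `k` for the element of the torus -/
structure Tab3 (D : ChevalleyDatum) (l : ℕ) (J : List (Fin l)) (e : Fin l → ℤ) (ω : List (Fin l))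
    (r : Fin 3 → Fin 3 → ℕ) (j : Fin 2 → Fin l) : Prop where
  tb : TabB D l J e ω 1 r
  simp : SimpB D l 1 r j
  neg : ∀ a b, a ≠ b → r b a = D.neg (r a b)

/-- the data over a field -/
structure R3 {D : ChevalleyDatum} {l : ℕ} {M : CoxeterMatrix (Fin l)} (hp : IsType D l M) (K : Type u) [Field K]
    (J : List (Fin l)) (r : Fin 3 → Fin 3 → ℕ) (j : Fin 2 → Fin l)
    (φ : ∀ (L : Type u) [Field L], SpecialLinearGroup (Fin 3) L →* ↥(D.group L)) (ε : ℤ) (s₀ : ↥(D.group K)) : Prop where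
  hε : ε * ε = 1
  hφ : ∀ (L : Type u) [Field L] a b (hab : a ≠ b) c,
    φ L (SpecialLinearGroup.transvection hab c) = xc hp (vec D l (r a b)) ((ε : L) * c)
  mem : s₀ ∈ TT D K
  triv : ∀ a b, a ≠ b → ch hp (vec D l (r a b)) s₀ = 1
  wts : ∀ q < D.nroots, (∃ k, k ∉ J ∧ vec D l q k ≠ 0) → Six (D.cartan (j 0) q) (D.cartan (j 1) q) ∨
    (D.cartan (j 0) q = 0 ∧ D.cartan (j 1) q = 0 ∧ ch hp (vec D l q) s₀ ≠ 1)
  swap : ∃ y : ↥(D.group K), y * s₀ * y⁻¹ = s₀⁻¹ ∧ ∀ A, y * φ K A * y⁻¹ = φ K A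
  real : ∀ (s : ↥(D.group K)), s = s₀ ∨ s = s₀⁻¹ → ∀ X : SpecialLinearGroup (Fin 3) K, Irreducible X.1.charpoly →
    ∃ u : ↥(D.group K), u * u = 1 ∧ u * (s * φ K X) * u⁻¹ = (s * φ K X)⁻¹

theorem ch_inv {q : ℕ} (hq : q < D.nroots) {t : ↥(D.group K)} (ht : t ∈ TT D K) :
    ch hp (vec D l q) t⁻¹ = (ch hp (vec D l q) t)⁻¹ := by
  have h1 := ch_mul hp hq (inv_mem ht) ht
  rw [inv_mul_cancel] at h1
  have h2 := map_one (chH hp (K := K) hq)
  change ch hp (vec D l q) (1 : ↥(D.group K)) = 1 at h2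
  rw [h2] at h1
  exact eq_inv_of_mul_eq_one_left h1.symm

section

variable {J : List (Fin l)} {e : Fin l → ℤ} {ω : List (Fin l)} {r : Fin 3 → Fin 3 → ℕ} {j : Fin 2 → Fin l}
  {φ : ∀ (L : Type u) [Field L], SpecialLinearGroup (Fin 3) L →* ↥(D.group L)} {ε : ℤ} {s₀ : ↥(D.group K)}
  (T : Tab3 D l J e ω r j) (R : R3 hp K J r j φ ε s₀)

include T R

theorem R3.cm (A : SpecialLinearGroup (Fin 3) K) : s₀ * φ K A = φ K A * s₀ := by
  have h2 : (MulAut.conj s₀).toMonoidHom.comp (φ K) = φ K := by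
    refine hom_ext fun a b hab c => ?_
    change s₀ * φ K _ * s₀⁻¹ = φ K _
    rw [R.hφ, (act hp (T.tb.rlt a b hab) R.mem).2, R.triv a b hab, one_mul]
  have h3 := DFunLike.congr_fun h2 A
  change s₀ * φ K A * s₀⁻¹ = φ K A at h3
  calc s₀ * φ K A = (s₀ * φ K A * s₀⁻¹) * s₀ := by group
    _ = φ K A * s₀ := by rw [h3]

/-- **No fixed points.** -/
theorem R3.nf [Finite K] {X : SpecialLinearGroup (Fin 3) K} (hX : Irreducible X.1.charpoly) {s : ↥(D.group K)}
    (hs : s = s₀ ∨ s = s₀⁻¹) :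
    NF (VJ M.toCoxeterSystem hp.isCartan (XX D l K) {k | k ∈ J}) (s * φ K X) ∧
      NF (VNJ M.toCoxeterSystem hp.isCartan (XX D l K) {k | k ∈ J}) (s * φ K X) := by
  obtain ⟨K', hK', hfin, f, lam, g, hlam, hg⟩ := exists_ext hX
  obtain ⟨p, hpc⟩ := CharP.exists K'
  have : Fact p.Prime := ⟨(CharP.char_is_prime_or_zero K' p).resolve_right (CharP.char_ne_zero_of_finite K' p)⟩
  have B : Bk hp f {k | k ∈ J} 1 r j (φ K) (φ K') (fun _ _ => (ε : K)) := by
    refine ⟨T.simp, T.tb.rlt, T.tb.rJ, R.hφ K, fun a b hab c => ?_, fun a => ?_⟩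
    · rw [map_intCast]
      exact R.hφ K' a b hab c
    · rw [← Int.cast_mul, R.hε, Int.cast_one]
  obtain ⟨hl, -⟩ := B.conj hp hg
  have hmem : s ∈ TT D K := by
    rcases hs with rfl | rfl
    · exact R.mem
    · exact inv_mem R.mem
  have hch : ∀ q < D.nroots, ch hp (vec D l q) s₀ ≠ 1 → ch hp (vec D l q) s ≠ 1 := by
    intro q hq h
    rcases hs with rfl | rfl
    · exact h
    · rw [ch_inv hp hq R.mem]
      exact inv_ne_one.2 h
  refine nf_block hp p B hmem (fun a b hab => ?_) hg fun q hq hk => ?_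
  · rcases hs with rfl | rfl
    · exact R.triv a b hab
    · rw [ch_inv hp (T.tb.rlt a b hab) R.mem, R.triv a b hab, inv_one]
  · have e1 : ∏ b, lam b ^ wt D j q b = lam 0 ^ (D.cartan (j 0) q + D.cartan (j 1) q) * lam 1 ^ D.cartan (j 1) q := by
      rw [Fin.prod_univ_three]
      have w0 : wt D j q 0 = D.cartan (j 0) q + D.cartan (j 1) q := by
        simp [Cfsg.Agent.H482.Ore.Fix.wt, Fin.sum_univ_two]
      have w1 : wt D j q 1 = D.cartan (j 1) q := by
        simp [Cfsg.Agent.H482.Ore.Fix.wt, Fin.sum_univ_two]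
      have w2 : wt D j q 2 = 0 := by
        simp [Cfsg.Agent.H482.Ore.Fix.wt, Fin.sum_univ_two]
      rw [w0, w1, w2, zpow_zero, mul_one]
    rw [e1]
    have hc0 : ch hp (vec D l q) s ≠ 0 := (act hp hq hmem).1
    rcases R.wts q hq hk with h | ⟨h0, h1, h2⟩
    · obtain ⟨b, hb | hb⟩ := h.prod hl
      · rw [hb]
        intro h3
        refine hlam b ((ch hp (vec D l q) s)⁻¹) ?_
        rw [map_inv₀]
        exact eq_inv_of_mul_eq_one_right h3
      · rw [hb]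
        intro h3
        refine hlam b (ch hp (vec D l q) s) ?_
        exact (eq_inv_of_mul_eq_one_left h3).trans (inv_inv _) |>.symm
    · rw [h0, h1, add_zero, zpow_zero, zpow_zero, mul_one, mul_one]
      intro h3
      exact hch q hq h2 (f.injective (by rw [h3, map_one]))

/-- **Conjugation by `GL₃`.** -/
theorem R3.gl (g : GL (Fin 3) K) :
    ∃ y : ↥(D.group K), y * s₀ * y⁻¹ = s₀ ∧ ∀ A, y * φ K A * y⁻¹ = φ K (gc g A) := by
  refine gl_of_dd (R.cm hp T) (fun d => ⟨sg hp e d, ?_, ?_⟩) g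
  · have h1 := congrArg Subtype.val (comm_TT hp (⟨sg hp e d, sg_mem hp e d⟩ : ↥(TT D K)) ⟨s₀, R.mem⟩)
    change sg hp e d * s₀ = s₀ * sg hp e d at h1
    rw [h1]
    group
  · have h1 : (MulAut.conj (sg hp e d)).toMonoidHom.comp (φ K) = (φ K).comp (gcHom (dd 2 d)) := by
      refine hom_ext fun a b hab c => ?_
      change sg hp e d * φ K _ * (sg hp e d)⁻¹ = φ K (gc (dd 2 d) _)
      rw [gc_dd_transvection, R.hφ, R.hφ, act_sg hp e d (T.tb.rlt a b hab), T.tb.he a b hab]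
      congr 1
      by_cases ha : a = 0
      · have hb : b ≠ 0 := fun h => hab (ha.trans h.symm)
        simp [ha, hb]
        ring
      · by_cases hb : b = 0
        · simp [ha, hb]
          ring
        · simp [ha, hb]
    exact fun A => DFunLike.congr_fun h1 A

theorem R3.conj {s : ↥(D.group K)} (hs : s = s₀ ∨ s = s₀⁻¹) {X Y : SpecialLinearGroup (Fin 3) K}
    (hX : Irreducible X.1.charpoly) (h : Y.1.charpoly = X.1.charpoly) :
    ∃ y : ↥(D.group K), y * (s * φ K X) * y⁻¹ = s * φ K Y := by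
  obtain ⟨g, hg⟩ := exists_gc hX h
  obtain ⟨y, hy1, hy2⟩ := R.gl hp T g
  refine ⟨y, ?_⟩
  have hy3 : y * s * y⁻¹ = s := by
    rcases hs with rfl | rfl
    · exact hy1
    · calc y * s₀⁻¹ * y⁻¹ = (y * s₀ * y⁻¹)⁻¹ := by group
        _ = s₀⁻¹ := by rw [hy1]
  calc y * (s * φ K X) * y⁻¹ = (y * s * y⁻¹) * (y * φ K X * y⁻¹) := by group
    _ = s * φ K Y := by rw [hy3, hy2, hg]

end

/-! ### The longest element -/

/-! ### The rank one subgroups commuting with the block -/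

section

open Cfsg.Agent.FixBN.FieldRGD (uu vv dd ww)
open scoped MatrixGroups

/-- the table -/
def ChkC (D : ChevalleyDatum) (r : Fin 3 → Fin 3 → ℕ) (k : ℕ) : Prop :=
  ∀ a b : Fin 3, a ≠ b → (D.simple k ≠ r a b ∧ D.simple k ≠ D.neg (r a b) ∧ D.commTerms (r a b) (D.simple k) = []) ∧
    (D.neg (D.simple k) ≠ r a b ∧ D.neg (D.simple k) ≠ D.neg (r a b) ∧
      D.commTerms (r a b) (D.neg (D.simple k)) = [])

instance (D : ChevalleyDatum) (r : Fin 3 → Fin 3 → ℕ) (k : ℕ) : Decidable (ChkC D r k) := by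
  unfold ChkC; infer_instance

end

/-! ### The row with `s₀ = h_k(t)` -/

section

open Cfsg.Agent.FixBN.FieldRGD (uu vv dd ww)
open scoped MatrixGroups

/-- the values of the coroot of the node `k` -/
structure TabK (D : ChevalleyDatum) (l : ℕ) (J : List (Fin l)) (r : Fin 3 → Fin 3 → ℕ) (j : Fin 2 → Fin l)
    (k : Fin l) : Prop where
  z : ∀ a b : Fin 3, a ≠ b → D.cartan k (r a b) = 0
  w : ∀ q < D.nroots, (∃ k : Fin l, k ∉ J ∧ vec D l q k ≠ 0) → Six (D.cartan (j 0) q) (D.cartan (j 1) q) ∨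
    (D.cartan (j 0) q = 0 ∧ D.cartan (j 1) q = 0 ∧ (D.cartan k q = 1 ∨ D.cartan k q = -1 ∨
      D.cartan k q = 2 ∨ D.cartan k q = -2))
  c : ChkC D r k

end

end Cfsg.Agent.H144.OreF4
end

-- part: H144/OreF4/Main
section
/-!
# The groups `F₄(q)`, `q ≥ 4`, for the Ore conjecture (S2443) and products of four involutions (S4171)

`J` = the two long nodes `3`, `2`; `s₀ = h_0(t)`, `t² ≠ 1`, for the short node `0`; `n_0` inverts `s₀` and commutes with
the block.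

* `allC_F4'`, `inv4_F4'` : the rows from the product lemma `M3 K`.
-/

set_option autoImplicit false
set_option linter.unusedSectionVars false

namespace Cfsg.Agent.H144.OreF4

open Cfsg.Lie Cfsg.Agent.ChevalleyStructure Cfsg.Agent.ChevalleyStructure.RootVec
  Cfsg.Agent.ChevalleyStructure.CoxeterGeomTypes Cfsg.Agent.Nodes.RGDChev Cfsg.Agent.KFacts.RgdChevCoord
open Cfsg.Agent.H162.GaussExc Cfsg.Agent.H162.GaussExcMain Cfsg.Agent.TitsThree.KExcRT Cfsg.Agent.H777.Ore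
open Matrix (SpecialLinearGroup)

universe u

/-- the type -/
theorem hF : IsType chevF4 4 CoxeterMatrix.F₄ := Cfsg.Agent.Nodes.KindF.isType

/-- the block of the long nodes -/
def rL : Fin 3 → Fin 3 → ℕ := ![![0, 24, 26], ![23, 0, 25], ![21, 22, 0]]

/-- the long nodes -/
def jL : Fin 2 → Fin 4 := ![3, 2]

theorem rtL : RTa chevF4 rL ∧ (RTb chevF4 rL fun _ _ => 1) ∧ RTc chevF4 rL ∧
    ∀ i j, i ≠ j → rL j i = chevF4.neg (rL i j) := by decide +kernel

/-- the weights outside the block -/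
def Chk1 : Prop := ∀ q < chevF4.nroots, (∃ k : Fin 4, k ∉ ([3, 2] : List (Fin 4)) ∧ vec chevF4 4 q k ≠ 0) →
  Six (chevF4.cartan (jL 0) q) (chevF4.cartan (jL 1) q) ∨
    (chevF4.cartan (jL 0) q = 0 ∧ chevF4.cartan (jL 1) q = 0 ∧
      (chevF4.cartan (0 : Fin 4) q = 1 ∨ chevF4.cartan (0 : Fin 4) q = -1 ∨
        chevF4.cartan (0 : Fin 4) q = 2 ∨ chevF4.cartan (0 : Fin 4) q = -2))

instance : Decidable Chk1 := by
  unfold Chk1
  refine @Nat.decidableBallLT _ _ fun q _ => ?_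
  infer_instance

end Cfsg.Agent.H144.OreF4
end

-- part: H85/Pw/FTab
section
/-!
# `F_4(q)`: the blocks `A_2` (long), `A_1` (short) (S2465)

* `T₁`, `T₂`, `sub`, `com`, `chk` : the tables, `J = {3, 2, 0}`;
* `all_F4_of` : `All n (F_4(q))` from products in `SL_3(q)`, `SL_2(q)`.
-/

set_option autoImplicit false
set_option linter.unusedSectionVars false

namespace Cfsg.Agent.H85.Pw.FFour

open Cfsg.Agent.FixBN.FieldRGD (uu vv)

open CoxeterSystem Cfsg.Agent.ChevalleyStructure.CoxeterGeom Cfsg.Agent.Tits.Roots Cfsg.Agent.Tits.Core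
  Cfsg.Agent.Nodes.Reps Cfsg.Agent.Nodes.BNOf Cfsg.Agent.Nodes.RGDLib Cfsg.Agent.Nodes.Bruhat
  Cfsg.Agent.Nodes.OppDec Cfsg.Agent.Nodes.LeviDec Cfsg.Agent.Nodes.KindChev Cfsg.Agent.Nodes.ChevCls
  Cfsg.Agent.OddHalf.NI.ModelChev
  Cfsg.Agent.H162.GaussDec Cfsg.Agent.H162.GaussLevi Cfsg.Agent.H162.GaussSL Cfsg.Agent.H162.GaussReg
  Cfsg.Agent.H162.GaussMain Cfsg.Agent.H162.GaussPQ Cfsg.Agent.H162.GaussExc Cfsg.Agent.H162.GaussExcMain
open Cfsg.Lie Cfsg.Agent.ChevalleyStructure Cfsg.Agent.ChevalleyStructure.Elts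
  Cfsg.Agent.ChevalleyStructure.RootVec Cfsg.Agent.ChevalleyStructure.NPerm
  Cfsg.Agent.ChevalleyStructure.CoxeterGeomTypes Cfsg.Agent.Nodes.RGDChev Cfsg.Agent.KFacts.RgdChevCoord
open Cfsg.Agent.H85.Ore Cfsg.Agent.H78.Pw Cfsg.Agent.H85.Pw
open Cfsg.Agent.H144.OreF4 (hF rL jL rtL)
open Polynomial (X C)

universe u

/-- the nodes -/
def JF : List (Fin 4) := [3, 2, 0]

/-- the roots of the block of the short node -/
def rS : Fin 2 → Fin 2 → ℕ := ![![0, 33], ![14, 0]]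

/-- the short node -/
def jS : Fin 1 → Fin 4 := ![0]

theorem aL : (∀ a : Fin 2, rL a.castSucc a.succ = chevF4.simple (jL a)) ∧ (∀ a b, a ≠ b → rL a b < chevF4.nroots) ∧
    ∀ a b, a ≠ b → ∀ k, k ∉ JF → vec chevF4 4 (rL a b) k = 0 := by decide +kernel

theorem aS : (∀ a : Fin 1, rS a.castSucc a.succ = chevF4.simple (jS a)) ∧ (∀ a b, a ≠ b → rS a b < chevF4.nroots) ∧
    (∀ a b, a ≠ b → ∀ k, k ∉ JF → vec chevF4 4 (rS a b) k = 0) ∧ ∀ a b, a ≠ b → rS b a = chevF4.neg (rS a b) := by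
  decide +kernel

theorem sub : Sub2 chevF4 4 JF 1 0 rL rS := by decide +kernel

theorem com : Com2 chevF4 1 0 rL rS := by decide +kernel

theorem chk : Chk2 chevF4 4 JF jL jS := by decide +kernel

theorem exists_L (K : Type u) [Field K] : ∃ φ : Matrix.SpecialLinearGroup (Fin (1 + 2)) K →* ↥(chevF4.group K),
    ∀ a b (hab : a ≠ b) c, φ (Matrix.SpecialLinearGroup.transvection hab c) =
      xc hF (vec chevF4 4 (rL a b)) (((1 : ℤ) : K) * c) :=
  exists_hom_D hF (K := K) (ε := 1) (by norm_num) rtL.1 rtL.2.1 rtL.2.2.1 rtL.2.2.2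

theorem exists_S (K : Type u) [Field K] : ∃ φ : Matrix.SpecialLinearGroup (Fin (0 + 2)) K →* ↥(chevF4.group K),
    ∀ a b (hab : a ≠ b) c, φ (Matrix.SpecialLinearGroup.transvection hab c) =
      xc hF (vec chevF4 4 (rS a b)) (((1 : ℤ) : K) * c) := by
  have h33 : 33 < chevF4.nroots := by decide +kernel
  have hn : chevF4.neg 33 = 14 := by decide +kernel
  obtain ⟨φ, h1, h2, -, -, -⟩ := exists_sl hF (K := K) h33
  refine ⟨φ, ?_⟩
  intro a b hab c
  rw [Int.cast_one, one_mul]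
  have e1 : ∀ c : K, Matrix.SpecialLinearGroup.transvection (show (0 : Fin 2) ≠ 1 by decide) c = uu c := by
    intro c
    apply Subtype.ext
    ext i j
    fin_cases i <;> fin_cases j <;> simp [Matrix.SpecialLinearGroup.transvection, Matrix.transvection, uu]
  have e2 : ∀ c : K, Matrix.SpecialLinearGroup.transvection (show (1 : Fin 2) ≠ 0 by decide) c = vv c := by
    intro c
    apply Subtype.ext
    ext i j
    fin_cases i <;> fin_cases j <;> simp [Matrix.SpecialLinearGroup.transvection, Matrix.transvection, vv]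
  have e3 : vec chevF4 4 14 = - vec chevF4 4 33 := by
    rw [← vec_neg hF h33, hn]
  fin_cases a <;> fin_cases b
  · exact absurd rfl hab
  · exact (congrArg φ (e1 c)).trans (h1 c)
  · refine (congrArg φ (e2 c)).trans ((h2 c).trans ?_)
    rw [← e3]
    rfl
  · exact absurd rfl hab

theorem T₁ : Tb hF JF 1 rL jL 1 where
  eps := by norm_num
  up := aL.1
  neg := rtL.2.2.2
  rlt := aL.2.1
  rJ := aL.2.2
  hom := fun F _ => exists_L F

theorem T₂ : Tb hF JF 0 rS jS 1 where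
  eps := by norm_num
  up := aS.1
  neg := aS.2.2.2
  rlt := aS.2.1
  rJ := aS.2.2.1
  hom := fun F _ => exists_S F

theorem all_F4_of {K : Type u} [Field K] [Finite K] {K' : Type} [Field K'] [Finite K'] (i : K →+* K') {m n : ℕ}
    (P₁ : ∀ L ∈ LT 3 K, ∀ U ∈ UT 3 K, ∃ x y : Matrix.SpecialLinearGroup (Fin 3) K,
      L * U = x * y ∧ Ev i (E₁ m n) x ∧ Ev i (E₁ m n) y)
    (P₂ : ∀ L ∈ LT 2 K, ∀ U ∈ UT 2 K, ∃ x y : Matrix.SpecialLinearGroup (Fin 2) K,
      L * U = x * y ∧ Ev i (E₂ m n) x ∧ Ev i (E₂ m n) y) : All n ↥(chevF4.group K) := by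
  obtain ⟨φ₁, h₁⟩ := exists_L K
  obtain ⟨φ₂, h₂⟩ := exists_S K
  exact all_of_two hF T₁ T₂ sub com chk i h₁ h₂ (by norm_num) (Cfsg.Agent.S1054.result chevF4 (by simp))
    Cfsg.Agent.Nodes.ChevChart.irrF P₁ P₂

end Cfsg.Agent.H85.Pw.FFour
end

-- part: H85/Pw/FFour
section
/-!
# `F_4(q)`, `q ≥ 4`: products of two elements of order prime to `6` (S2465)

* `six_F4` : `All 6 (F_4(q))` for `q = 2 ^ a`, `3 ^ a`, `q ≥ 4`.
-/

set_option autoImplicit false

namespace Cfsg.Agent.H85.Pw.FFour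

open Cfsg.Lie Cfsg.Agent.H85.Pw Cfsg.Agent.H78.Pw Cfsg.Agent.H162.GaussSL

universe u

theorem coprime_six {N : ℕ} (h2 : N % 2 = 1) (h3 : N % 3 ≠ 0) : N.Coprime 6 := by
  have e2 : N.Coprime 2 := (Nat.coprime_comm.1 ((Nat.Prime.coprime_iff_not_dvd Nat.prime_two).2 (by omega)))
  have e3 : N.Coprime 3 := (Nat.coprime_comm.1 ((Nat.Prime.coprime_iff_not_dvd Nat.prime_three).2 (by omega)))
  exact Nat.Coprime.mul_right e2 e3

theorem six_aux {q : ℕ} (h : q % 3 ≠ 1) : (1 + q + q ^ 2).Coprime 6 := by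
  have e2 : q ^ 2 % 2 = q % 2 := by
    have h1 : q % 2 = 0 ∨ q % 2 = 1 := by omega
    rw [Nat.pow_mod]
    rcases h1 with h1 | h1 <;> rw [h1]
  have e3 : (q % 3 = 0 ∧ q ^ 2 % 3 = 0) ∨ (q % 3 = 2 ∧ q ^ 2 % 3 = 1) := by
    have h1 : q % 3 = 0 ∨ q % 3 = 2 := by omega
    rw [Nat.pow_mod]
    rcases h1 with h1 | h1
    · left
      rw [h1]
      norm_num
    · right
      rw [h1]
      norm_num
  exact coprime_six (by omega) (by omega)

/-- numbers prime to `6` have prime divisors `≥ 5` -/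
theorem exists_five {N : ℕ} (hN : N ≠ 1) (h2 : N % 2 = 1) (h3 : N % 3 ≠ 0) : ∃ ℓ : ℕ, ℓ.Prime ∧ 5 ≤ ℓ ∧ ℓ ∣ N := by
  have hp := Nat.minFac_prime hN
  refine ⟨N.minFac, hp, ?_, Nat.minFac_dvd N⟩
  have hd := Nat.minFac_dvd N
  have h2' := hp.two_le
  by_contra hlt
  have h4 : N.minFac = 2 ∨ N.minFac = 3 ∨ N.minFac = 4 := by omega
  rcases h4 with h | h | h
  · rw [h] at hd
    omega
  · rw [h] at hd
    omega
  · rw [h] at hp
    exact absurd hp (by norm_num)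

/-- a prime divisor `≥ 5` of `q - 1`, `q = 4 ^ k ≥ 16` -/
theorem exists_five_sub {e : ℕ} (h1 : 2 ^ e % 3 = 1) (h4 : 4 < 2 ^ e) : ∃ ℓ : ℕ, ℓ.Prime ∧ 5 ≤ ℓ ∧ ℓ ∣ 2 ^ e - 1 := by
  obtain ⟨k, rfl | rfl⟩ := Nat.even_or_odd' e
  · have hk : 2 ≤ k := by
      by_contra hk
      have : k = 0 ∨ k = 1 := by omega
      rcases this with rfl | rfl <;> norm_num at h4
    have e1 : 2 ^ (2 * k) - 1 = (2 ^ k - 1) * (2 ^ k + 1) := by
      have h5 : 1 ≤ 2 ^ k := Nat.one_le_two_pow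
      obtain ⟨c, hc⟩ : ∃ c, 2 ^ k = c + 1 := ⟨2 ^ k - 1, by omega⟩
      rw [mul_comm 2 k, pow_mul, hc, Nat.add_sub_cancel]
      have : (c + 1) ^ 2 = c * (c + 1 + 1) + 1 := by ring
      rw [this, Nat.add_sub_cancel]
    have e2 : 4 ≤ 2 ^ k := by
      calc 4 = 2 ^ 2 := by norm_num
        _ ≤ 2 ^ k := Nat.pow_le_pow_right (by norm_num) hk
    have e3 : 2 ^ k % 2 = 0 := by
      obtain ⟨j, rfl⟩ : ∃ j, k = j + 1 := ⟨k - 1, by omega⟩
      rw [pow_succ]
      omega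
    rw [e1]
    by_cases h3 : (2 ^ k - 1) % 3 = 0
    · obtain ⟨ℓ, a, b, c⟩ := exists_five (N := 2 ^ k + 1) (by omega) (by omega) (by omega)
      exact ⟨ℓ, a, b, c.mul_left _⟩
    · obtain ⟨ℓ, a, b, c⟩ := exists_five (N := 2 ^ k - 1) (by omega) (by omega) h3
      exact ⟨ℓ, a, b, c.mul_right _⟩
  · exfalso
    have h5 : 2 ^ (2 * k + 1) % 3 = 2 := by
      rw [pow_succ, pow_mul, Nat.mul_mod, Nat.pow_mod]
      norm_num
    omega

/-- **`F_4(q)`, `q ≥ 4`, `q` a power of `2` or `3`** -/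
theorem six_F4 {K : Type u} [Field K] [Finite K] (hq : 4 ≤ Nat.card K) (h : 2 ∣ Nat.card K ∨ 3 ∣ Nat.card K) :
    All 6 ↥(chevF4.group K) := by
  obtain ⟨p, hpc⟩ := CharP.exists K
  have hpp : Fact p.Prime := ⟨(CharP.char_is_prime_or_zero K p).resolve_right (CharP.char_ne_zero_of_finite K p)⟩
  have := Fintype.ofFinite K
  obtain ⟨e, -, he⟩ := FiniteField.card K p
  rw [← Nat.card_eq_fintype_card] at he
  have hK' : Nat.card (FiniteField.Extension K p 6) = Nat.card K ^ 6 := FiniteField.natCard_extension K p 6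
  have hp23 : p = 2 ∨ p = 3 := by
    rw [he] at h
    rcases h with h | h
    · left
      exact ((Nat.prime_dvd_prime_iff_eq Nat.prime_two hpp.1).1 (Nat.prime_two.dvd_of_dvd_pow h)).symm
    · right
      exact ((Nat.prime_dvd_prime_iff_eq Nat.prime_three hpp.1).1 (Nat.prime_three.dvd_of_dvd_pow h)).symm
  by_cases h1 : Nat.card K % 3 = 1
  · have hp2 : p = 2 := by
      rcases hp23 with h2 | h2
      · exact h2
      · exfalso
        have h3 : 3 ∣ Nat.card K := by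
          rw [he, h2]
          exact dvd_pow_self 3 e.2.ne'
        omega
    subst hp2
    have h2 : 2 ∣ Nat.card K := by
      rw [he]
      exact dvd_pow_self 2 e.2.ne'
    by_cases h4 : Nat.card K = 4
    · -- `q = 4`
      have hm : Nat.card K ^ 2 - 1 = 15 := by rw [h4]; norm_num
      refine all_F4_of (algebraMap K (FiniteField.Extension K 2 6)) (m := Nat.card K ^ 2 - 1) (n := 6)
        (fun L hL U hU => ?_) (p_two_ev hK' (by norm_num) (ℓ := 5) Nat.prime_five le_rfl (by rw [hm]; norm_num)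
          (by rw [hm]; norm_num) (by norm_num))
      obtain ⟨X, Y, h5, h6, h7, h8, h9⟩ := PThree.p_three_four h4 L U hL hU
      have key : ∀ Z : Matrix.SpecialLinearGroup (Fin 3) K, Z ^ 7 = 1 → (orderOf Z).Coprime 6 := fun Z hZ =>
        Nat.Coprime.of_dvd_left (orderOf_dvd_of_pow_eq_one hZ) (by norm_num)
      exact ⟨X, Y, h5, ev_irr hK' (by norm_num) (by norm_num) h6 (key X h8),
        ev_irr hK' (by norm_num) (by norm_num) h7 (key Y h9)⟩
    · -- `q = 4 ^ k`, `q ≥ 16`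
      have h5 : 4 < 2 ^ (e : ℕ) := by omega
      obtain ⟨ℓ, hℓ, hℓ5, hℓd⟩ := exists_five_sub (e := e) (by omega) h5
      obtain ⟨ℓ', hℓ', hℓ5', hℓd'⟩ := exists_five (N := Nat.card K + 1) (by omega) (by omega) (by omega)
      have h6 : ∀ {r : ℕ}, r.Prime → 5 ≤ r → r.Coprime 6 := by
        intro r hr h7
        refine (Nat.Prime.coprime_iff_not_dvd hr).2 fun h8 => ?_
        have h9 : r ∣ 2 * 3 := h8
        rcases (hr.dvd_mul).1 h9 with h9 | h9
        · have := Nat.le_of_dvd (by norm_num) h9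
          omega
        · have := Nat.le_of_dvd (by norm_num) h9
          omega
      have : Fact ℓ.Prime := ⟨hℓ⟩
      obtain ⟨g, hg⟩ := exists_prime_orderOf_dvd_card' (G := Kˣ) ℓ (by rw [Nat.card_units, he]; exact hℓd)
      have hg' : orderOf (g : K) = ℓ := by rw [orderOf_units, hg]
      refine all_F4_of (algebraMap K (FiniteField.Extension K 2 6)) (m := Nat.card K + 1) (n := 6)
        (p_nu hK' (by norm_num) g.ne_zero ?_ (coprime_six (by omega) (by omega)) (by rw [hg']; exact h6 hℓ hℓ5))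
        (p_two_ev hK' (by norm_num) hℓ' hℓ5' ?_ hℓd' (h6 hℓ' hℓ5'))
      · intro h7
        have h8 := orderOf_dvd_of_pow_eq_one h7
        rw [hg'] at h8
        have := Nat.le_of_dvd (by norm_num) h8
        omega
      · have h7 : Nat.card K ^ 2 - 1 = (Nat.card K + 1) * (Nat.card K - 1) := by
          have h8 := Nat.sq_sub_sq (Nat.card K) 1
          rwa [one_pow] at h8
        rw [h7]
        exact hℓd'.mul_right _
  · -- `q` is not `1` mod `3`
    obtain ⟨ℓ, hℓ, hℓ5, hℓd⟩ := Cfsg.Agent.H267.Ore.PTwo.exists_prime hq h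
    have h6 : ℓ.Coprime 6 := by
      refine (Nat.Prime.coprime_iff_not_dvd hℓ).2 fun h8 => ?_
      have h9 : ℓ ∣ 2 * 3 := h8
      rcases (hℓ.dvd_mul).1 h9 with h9 | h9
      · have := Nat.le_of_dvd (by norm_num) h9
        omega
      · have := Nat.le_of_dvd (by norm_num) h9
        omega
    have h7 : (1 + Nat.card K + Nat.card K ^ 2).Coprime 6 := six_aux h1
    exact all_F4_of (algebraMap K (FiniteField.Extension K p 6)) (m := Nat.card K ^ 2 - 1) (n := 6)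
      (p_irr hK' (by norm_num) hq h7) (p_two_ev hK' (by norm_num) hℓ hℓ5 hℓd hℓd h6)

end Cfsg.Agent.H85.Pw.FFour
end

private theorem dce_760564fcc0f0 : _root_.True := by
  try have : _root_.True := by simp only [_root_.Cfsg.Agent.H482.Ore.Fix.wt.eq_1]
  try have : _root_.True := by simp only [_root_.Cfsg.Agent.FixBN.FieldRGD.ww.congr_simp]
  exact _root_.True.intro
end

-- part: H85/Pw/TwoS
section
prune_inst 0x420600402e2020000180000202020300000010200430001484001000040826029832f413060031212501e512049c00000000010003000000000020040010120800a50069308010c640089809000000000000000000000000000000000000000000000000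
set_option linter.all false
open scoped Cfsg.Agent.FastGrp

/-!
# Two commuting blocks of type `A` in `D.group K` (S2465)

* `Tb` : the table of a block;  `Two` : the table of two commuting blocks which generate the Levi subgroup of `J`;
* `UJ_le₂`, `UNJ_le₂` : `U_J`, `U_J⁻` are in the products of the images of the unitriangular groups;
* `Ev` : the eigenvalues over `K'`;
* `pairs_of_two` : if all `L * U` of the two blocks are products of two elements with eigenvalues in `E₁`, `E₂` such that no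
  root outside `J` has value `1`, and `lam ^ N = 1`, then every element is a product of two elements with `a ^ N = 1`.
-/

set_option autoImplicit false
set_option linter.unusedSectionVars false

namespace Cfsg.Agent.H85.Pw.TwoS

open CoxeterSystem Cfsg.Agent.ChevalleyStructure.CoxeterGeom Cfsg.Agent.Tits.Roots Cfsg.Agent.Tits.Core
  Cfsg.Agent.Nodes.Reps Cfsg.Agent.Nodes.BNOf Cfsg.Agent.Nodes.RGDLib Cfsg.Agent.Nodes.Bruhat
  Cfsg.Agent.Nodes.OppDec Cfsg.Agent.Nodes.LeviDec Cfsg.Agent.Nodes.KindChev Cfsg.Agent.Nodes.ChevCls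
  Cfsg.Agent.OddHalf.NI.ModelChev
  Cfsg.Agent.H162.GaussDec Cfsg.Agent.H162.GaussLevi Cfsg.Agent.H162.GaussSL Cfsg.Agent.H162.GaussReg
  Cfsg.Agent.H162.GaussMain Cfsg.Agent.H162.GaussPQ Cfsg.Agent.H162.GaussExc
open Cfsg.Lie Cfsg.Agent.ChevalleyStructure Cfsg.Agent.ChevalleyStructure.Elts
  Cfsg.Agent.ChevalleyStructure.RootVec Cfsg.Agent.ChevalleyStructure.NPerm
  Cfsg.Agent.ChevalleyStructure.CoxeterGeomTypes Cfsg.Agent.Nodes.RGDChev Cfsg.Agent.KFacts.RgdChevCoord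
open Cfsg.Agent.H928.Ore.Frame (NF LP)
open Cfsg.Agent.H482.Ore.Fix (Bk Dz SimpB)
open Cfsg.Agent.H85.Ore Cfsg.Agent.H85.Pw
open Polynomial (X C)

universe u

/-! ### Tables -/

/-- the table of a block -/
structure Tb {D : ChevalleyDatum} {l : ℕ} {M : CoxeterMatrix (Fin l)} (hp : IsType D l M) (J : List (Fin l)) (n : ℕ)
    (r : Fin (n + 2) → Fin (n + 2) → ℕ) (j : Fin (n + 1) → Fin l) (s : Fin (n + 2) → Fin (n + 2) → ℤ) : Prop where
  eps : ∀ a b, s a b * s a b = 1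
  sym : ∀ a b, s b a = s a b
  up : ∀ a : Fin (n + 1), r a.castSucc a.succ = D.simple (j a)
  neg : ∀ a b, a ≠ b → r b a = D.neg (r a b)
  rlt : ∀ a b, a ≠ b → r a b < D.nroots
  rJ : ∀ a b, a ≠ b → ∀ k, k ∉ J → vec D l (r a b) k = 0
  hom : ∀ (F : Type) [Field F], ∃ φ : Matrix.SpecialLinearGroup (Fin (n + 2)) F →* ↥(D.group F),
    ∀ a b (hab : a ≠ b) c, φ (Matrix.SpecialLinearGroup.transvection hab c) = xc hp (vec D l (r a b)) ((s a b : F) * c)

section

variable {D : ChevalleyDatum} {l : ℕ} {M : CoxeterMatrix (Fin l)} (hp : IsType D l M) {J : List (Fin l)} {n₁ n₂ : ℕ}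
  {r₁ : Fin (n₁ + 2) → Fin (n₁ + 2) → ℕ} {r₂ : Fin (n₂ + 2) → Fin (n₂ + 2) → ℕ} {j₁ : Fin (n₁ + 1) → Fin l}
  {j₂ : Fin (n₂ + 1) → Fin l} {s₁ : Fin (n₁ + 2) → Fin (n₁ + 2) → ℤ}
  {s₂ : Fin (n₂ + 2) → Fin (n₂ + 2) → ℤ} (T₁ : Tb hp J n₁ r₁ j₁ s₁) (T₂ : Tb hp J n₂ r₂ j₂ s₂)
  (hsub : Sub2 D l J n₁ n₂ r₁ r₂) (hcom : Com2 D n₁ n₂ r₁ r₂)

include T₁ T₂ hcom in
theorem xc_comm {F : Type*} [Field F] {a b : Fin (n₁ + 2)} (hab : a ≠ b) {c d : Fin (n₂ + 2)} (hcd : c ≠ d) (x y : F) :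
    xc hp (vec D l (r₁ a b)) x * xc hp (vec D l (r₂ c d)) y = xc hp (vec D l (r₂ c d)) y * xc hp (vec D l (r₁ a b)) x := by
  obtain ⟨h1, h2, h3⟩ := hcom a b hab c d hcd
  have h4 := Cfsg.Agent.TitsThree.KExcBase.comm_nil (F := F) hp.inList (T₁.rlt a b hab) (T₂.rlt c d hcd) h1 h2 h3 x y
  apply Subtype.ext
  rw [Subgroup.coe_mul, Subgroup.coe_mul, coe_xc hp (T₁.rlt a b hab), coe_xc hp (T₂.rlt c d hcd)]
  exact h4

variable {K : Type u} [Field K]
  {φ₁ : Matrix.SpecialLinearGroup (Fin (n₁ + 2)) K →* ↥(D.group K)}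
  {φ₂ : Matrix.SpecialLinearGroup (Fin (n₂ + 2)) K →* ↥(D.group K)}
  (hφ₁ : ∀ a b (hab : a ≠ b) c, φ₁ (Matrix.SpecialLinearGroup.transvection hab c) =
    xc hp (vec D l (r₁ a b)) ((s₁ a b : K) * c))
  (hφ₂ : ∀ a b (hab : a ≠ b) c, φ₂ (Matrix.SpecialLinearGroup.transvection hab c) =
    xc hp (vec D l (r₂ a b)) ((s₂ a b : K) * c))

include T₁ T₂ hcom hφ₁ hφ₂ in
theorem comm_phi₂ (A : Matrix.SpecialLinearGroup (Fin (n₁ + 2)) K) (B : Matrix.SpecialLinearGroup (Fin (n₂ + 2)) K) :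
    φ₁ A * φ₂ B = φ₂ B * φ₁ A := by
  have h1 : ∀ a b (hab : a ≠ b) (x : K) (B : Matrix.SpecialLinearGroup (Fin (n₂ + 2)) K),
      xc hp (vec D l (r₁ a b)) x * φ₂ B = φ₂ B * xc hp (vec D l (r₁ a b)) x := by
    intro a b hab x B
    have h2 : (MulAut.conj (xc hp (vec D l (r₁ a b)) x)).toMonoidHom.comp φ₂ = φ₂ := by
      refine hom_ext fun c d hcd y => ?_
      change xc hp (vec D l (r₁ a b)) x * φ₂ _ * (xc hp (vec D l (r₁ a b)) x)⁻¹ = φ₂ _
      rw [hφ₂, xc_comm hp T₁ T₂ hcom hab hcd, mul_inv_cancel_right]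
    have h3 := DFunLike.congr_fun h2 B
    change xc hp (vec D l (r₁ a b)) x * φ₂ B * (xc hp (vec D l (r₁ a b)) x)⁻¹ = φ₂ B at h3
    exact mul_inv_eq_iff_eq_mul.1 h3
  have h2 : (MulAut.conj (φ₂ B)).toMonoidHom.comp φ₁ = φ₁ := by
    refine hom_ext fun a b hab y => ?_
    change φ₂ B * φ₁ _ * (φ₂ B)⁻¹ = φ₁ _
    rw [hφ₁, ← h1 a b hab, mul_inv_cancel_right]
  have h3 := DFunLike.congr_fun h2 A
  change φ₂ B * φ₁ A * (φ₂ B)⁻¹ = φ₁ A at h3
  exact (mul_inv_eq_iff_eq_mul.1 h3).symm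

include T₁ T₂ hsub hφ₁ hφ₂

theorem up₂ {x : Fin l → ℤ} (hx : x ∈ Cfsg.Agent.Nodes.StabComb.PosJ M.toCoxeterSystem hp.isCartan {k | k ∈ J}) :
    XX D l K x ≤ (UT (n₁ + 2) K).map φ₁ ⊔ (UT (n₂ + 2) K).map φ₂ := by
  have he₁ : ∀ a b, (s₁ a b : K) * (s₁ a b : K) = 1 := fun a b => by rw [← Int.cast_mul, T₁.eps, Int.cast_one]
  have he₂ : ∀ a b, (s₂ a b : K) * (s₂ a b : K) = 1 := fun a b => by rw [← Int.cast_mul, T₂.eps, Int.cast_one]
  obtain ⟨q, hq, rfl⟩ := (isRoot_iff hp _ x).1 hx.1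
  rcases hsub q hq hx.2.2 with ⟨a, b, hab, rfl, h1, h2⟩ | ⟨a, b, hab, rfl, h1, h2⟩
  · refine le_trans ?_ le_sup_left
    have hlt : a < b := by
      rcases lt_or_gt_of_ne hab with h | h
      · exact h
      · obtain ⟨k, hk⟩ := h2 h
        exact absurd (hx.2.1 k) (not_le.2 hk)
    intro y hy
    obtain ⟨c, rfl⟩ := (mem_XX hp hq y).1 hy
    refine ⟨Matrix.SpecialLinearGroup.transvection hab ((s₁ a b : K) * c), tv_mem_UT hab hlt _, ?_⟩
    rw [hφ₁, ← mul_assoc, he₁, one_mul]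
  · refine le_trans ?_ le_sup_right
    have hlt : a < b := by
      rcases lt_or_gt_of_ne hab with h | h
      · exact h
      · obtain ⟨k, hk⟩ := h2 h
        exact absurd (hx.2.1 k) (not_le.2 hk)
    intro y hy
    obtain ⟨c, rfl⟩ := (mem_XX hp hq y).1 hy
    refine ⟨Matrix.SpecialLinearGroup.transvection hab ((s₂ a b : K) * c), tv_mem_UT hab hlt _, ?_⟩
    rw [hφ₂, ← mul_assoc, he₂, one_mul]

theorem lo₂ {x : Fin l → ℤ} (hx : x ∈ Cfsg.Agent.Nodes.StabComb.PosJ M.toCoxeterSystem hp.isCartan {k | k ∈ J}) :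
    XX D l K (-x) ≤ (LT (n₁ + 2) K).map φ₁ ⊔ (LT (n₂ + 2) K).map φ₂ := by
  have he₁ : ∀ a b, (s₁ a b : K) * (s₁ a b : K) = 1 := fun a b => by rw [← Int.cast_mul, T₁.eps, Int.cast_one]
  have he₂ : ∀ a b, (s₂ a b : K) * (s₂ a b : K) = 1 := fun a b => by rw [← Int.cast_mul, T₂.eps, Int.cast_one]
  obtain ⟨q, hq, hqx⟩ := (isRoot_iff hp _ (-x)).1 hx.1.neg
  have hx' : ∀ k, vec D l q k = - x k := fun k => by rw [hqx, Pi.neg_apply]
  have hx0 : ∀ k, 0 ≤ x k := hx.2.1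
  rw [← hqx]
  rcases hsub q hq (fun k hk => by rw [hx', hx.2.2 k hk, neg_zero]) with ⟨a, b, hab, rfl, h1, h2⟩ |
    ⟨a, b, hab, rfl, h1, h2⟩
  · refine le_trans ?_ le_sup_left
    have hlt : b < a := by
      rcases lt_or_gt_of_ne hab with h | h
      · obtain ⟨k, hk⟩ := h1 h
        rw [hx'] at hk
        exact absurd hk (not_lt.2 (neg_nonpos.2 (hx0 k)))
      · exact h
    intro y hy
    obtain ⟨c, rfl⟩ := (mem_XX hp hq y).1 hy
    refine ⟨Matrix.SpecialLinearGroup.transvection hab ((s₁ a b : K) * c), tv_mem_LT hab hlt _, ?_⟩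
    rw [hφ₁, ← mul_assoc, he₁, one_mul]
  · refine le_trans ?_ le_sup_right
    have hlt : b < a := by
      rcases lt_or_gt_of_ne hab with h | h
      · obtain ⟨k, hk⟩ := h1 h
        rw [hx'] at hk
        exact absurd hk (not_lt.2 (neg_nonpos.2 (hx0 k)))
      · exact h
    intro y hy
    obtain ⟨c, rfl⟩ := (mem_XX hp hq y).1 hy
    refine ⟨Matrix.SpecialLinearGroup.transvection hab ((s₂ a b : K) * c), tv_mem_LT hab hlt _, ?_⟩
    rw [hφ₂, ← mul_assoc, he₂, one_mul]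

include hcom

theorem UJ_mem₂ {w : ↥(D.group K)} (hw : w ∈ UJ M.toCoxeterSystem hp.isCartan (XX D l K) {k | k ∈ J}) :
    ∃ U₁ ∈ UT (n₁ + 2) K, ∃ U₂ ∈ UT (n₂ + 2) K, w = φ₁ U₁ * φ₂ U₂ := by
  have h1 : UJ M.toCoxeterSystem hp.isCartan (XX D l K) {k | k ∈ J} ≤
      (UT (n₁ + 2) K).map φ₁ ⊔ (UT (n₂ + 2) K).map φ₂ :=
    RGD.Sup_le fun x hx => up₂ hp T₁ T₂ hsub hφ₁ hφ₂ hx
  obtain ⟨a, ⟨U₁, h2, rfl⟩, b, ⟨U₂, h3, rfl⟩, rfl⟩ := sup_mem (by
    rintro _ ⟨x, -, rfl⟩ _ ⟨y, -, rfl⟩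
    exact comm_phi₂ hp T₁ T₂ hcom hφ₁ hφ₂ x y) (h1 hw)
  exact ⟨U₁, h2, U₂, h3, rfl⟩

theorem UNJ_mem₂ {w : ↥(D.group K)} (hw : w ∈ UNJ M.toCoxeterSystem hp.isCartan (XX D l K) {k | k ∈ J}) :
    ∃ L₁ ∈ LT (n₁ + 2) K, ∃ L₂ ∈ LT (n₂ + 2) K, w = φ₁ L₁ * φ₂ L₂ := by
  have h1 : UNJ M.toCoxeterSystem hp.isCartan (XX D l K) {k | k ∈ J} ≤
      (LT (n₁ + 2) K).map φ₁ ⊔ (LT (n₂ + 2) K).map φ₂ :=
    RGD.Sup_le fun x hx => by
      have := lo₂ hp T₁ T₂ hsub hφ₁ hφ₂ (x := -x) hx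
      rwa [_root_.neg_neg] at this
  obtain ⟨a, ⟨L₁, h2, rfl⟩, b, ⟨L₂, h3, rfl⟩, rfl⟩ := sup_mem (by
    rintro _ ⟨x, -, rfl⟩ _ ⟨y, -, rfl⟩
    exact comm_phi₂ hp T₁ T₂ hcom hφ₁ hφ₂ x y) (h1 hw)
  exact ⟨L₁, h2, L₂, h3, rfl⟩

end

section

variable {D : ChevalleyDatum} {l : ℕ} {M : CoxeterMatrix (Fin l)} (hp : IsType D l M) {J : List (Fin l)} {n₁ n₂ : ℕ}
  {r₁ : Fin (n₁ + 2) → Fin (n₁ + 2) → ℕ} {r₂ : Fin (n₂ + 2) → Fin (n₂ + 2) → ℕ} {j₁ : Fin (n₁ + 1) → Fin l}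
  {j₂ : Fin (n₂ + 1) → Fin l} {s₁ : Fin (n₁ + 2) → Fin (n₁ + 2) → ℤ}
  {s₂ : Fin (n₂ + 2) → Fin (n₂ + 2) → ℤ} (T₁ : Tb hp J n₁ r₁ j₁ s₁) (T₂ : Tb hp J n₂ r₂ j₂ s₂)
  (hsub : Sub2 D l J n₁ n₂ r₁ r₂) (hcom : Com2 D n₁ n₂ r₁ r₂)
  {K : Type u} [Field K] [Finite K]
  {φ₁ : Matrix.SpecialLinearGroup (Fin (n₁ + 2)) K →* ↥(D.group K)}
  {φ₂ : Matrix.SpecialLinearGroup (Fin (n₂ + 2)) K →* ↥(D.group K)}
  (hφ₁ : ∀ a b (hab : a ≠ b) c, φ₁ (Matrix.SpecialLinearGroup.transvection hab c) =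
    xc hp (vec D l (r₁ a b)) ((s₁ a b : K) * c))
  (hφ₂ : ∀ a b (hab : a ≠ b) c, φ₂ (Matrix.SpecialLinearGroup.transvection hab c) =
    xc hp (vec D l (r₂ a b)) ((s₂ a b : K) * c))
  {K' : Type} [Field K'] [Finite K'] (i : K →+* K') {E₁ : (Fin (n₁ + 2) → K') → Prop}
  {E₂ : (Fin (n₂ + 2) → K') → Prop}

include T₁ hφ₁ in
theorem exists_Bk : ∃ φ' : Matrix.SpecialLinearGroup (Fin (n₁ + 2)) K' →* ↥(D.group K'),
    Bk hp i {k | k ∈ J} n₁ r₁ j₁ φ₁ φ' (fun a b => (s₁ a b : K)) := by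
  obtain ⟨φ', hφ'⟩ := T₁.hom K'
  refine ⟨φ', ?_⟩
  exact
    { simp := ⟨T₁.up, fun a => by rw [← T₁.up a]; exact T₁.neg _ _ (cs_ne a)⟩
      rlt := T₁.rlt
      rJ := T₁.rJ
      hφ := hφ₁
      hφ' := fun a b hab c => by rw [hφ' a b hab c, map_intCast]
      ss := fun a => by rw [T₁.sym a.castSucc a.succ, ← Int.cast_mul, T₁.eps, Int.cast_one] }

include T₁ hφ₁ in
theorem phi_mem₁ (A : Matrix.SpecialLinearGroup (Fin (n₁ + 2)) K) :
    φ₁ A ∈ LJ M.toCoxeterSystem hp.isCartan (TT D K) (XX D l K) {k | k ∈ J} := by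
  have h1 : (⊤ : Subgroup (Matrix.SpecialLinearGroup (Fin (n₁ + 2)) K)) ≤
      (LJ M.toCoxeterSystem hp.isCartan (TT D K) (XX D l K) {k | k ∈ J}).comap φ₁ := by
    rw [← Cfsg.Agent.LieClassical.SLGen.closure_transvections, Subgroup.closure_le]
    rintro _ ⟨a, b, hab, c, rfl⟩
    change φ₁ _ ∈ LJ M.toCoxeterSystem hp.isCartan (TT D K) (XX D l K) {k | k ∈ J}
    rw [hφ₁]
    refine X_le_LJ (J := {k | k ∈ J}) (x := vec D l (r₁ a b)) ⟨isRoot_vec hp _ (T₁.rlt a b hab), T₁.rJ a b hab⟩ ?_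
    exact (mem_XX hp (T₁.rlt a b hab) _).2 ⟨_, rfl⟩
  exact h1 (Subgroup.mem_top A)

include T₁ T₂ hcom hφ₁ hφ₂ in
theorem nf₂ (hout : ∀ lam, E₁ lam → ∀ mu, E₂ mu → ∀ q < D.nroots, (∃ k, k ∉ J ∧ vec D l q k ≠ 0) →
      (∏ b, lam b ^ wt D j₁ q b) * ∏ b, mu b ^ wt D j₂ q b ≠ 1)
    {x : Matrix.SpecialLinearGroup (Fin (n₁ + 2)) K} {y : Matrix.SpecialLinearGroup (Fin (n₂ + 2)) K} (hx : Ev i E₁ x)
    (hy : Ev i E₂ y) :
    NF (VJ M.toCoxeterSystem hp.isCartan (XX D l K) {k | k ∈ J}) (φ₁ x * φ₂ y) ∧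
      NF (VNJ M.toCoxeterSystem hp.isCartan (XX D l K) {k | k ∈ J}) (φ₁ x * φ₂ y) := by
  obtain ⟨ch, hch⟩ := CharP.exists K'
  have := Fintype.ofFinite K'
  have : Fact ch.Prime := ⟨(CharP.char_is_prime_or_zero K' ch).resolve_right (CharP.char_ne_zero_of_finite K' ch)⟩
  obtain ⟨lam, h1, h2, h3⟩ := hx
  obtain ⟨mu, g1, g2, g3⟩ := hy
  obtain ⟨g, hg⟩ := Cfsg.Agent.H934.MF.diag_map i x.1 h2 h3
  obtain ⟨h, hh⟩ := Cfsg.Agent.H934.MF.diag_map i y.1 g2 g3
  obtain ⟨φ₁', B₁⟩ := exists_Bk hp T₁ hφ₁ i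
  obtain ⟨φ₂', B₂⟩ := exists_Bk hp T₂ hφ₂ i
  refine ((B₁.dz hp hg).mul hp (B₂.dz hp hh) (B₁.comm_range₂ hp B₂ fun a b hab c d hcd x y =>
    xc_comm hp T₁ T₂ hcom hab hcd x y)).nf hp ch fun q hq hk => ?_
  exact hout lam h1 mu g1 q hq hk

variable (hl : 0 < l) (hG : IsSimpleGroup ↥(D.group K) ∧ ¬ IsMulCommutative ↥(D.group K))
  (hM : ∀ J : Finset (Fin l), J = ∅ ∨ J = Finset.univ ∨ ∃ a ∈ J, ∃ b, b ∉ J ∧ M a b ≠ 2)

include T₁ T₂ hsub hcom hφ₁ hφ₂ hl hG hM in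
/-- **The frame for two blocks.** -/
theorem pairs_of_two {N : ℕ}
    (hout : ∀ lam, E₁ lam → ∀ mu, E₂ mu → ∀ q < D.nroots, (∃ k, k ∉ J ∧ vec D l q k ≠ 0) →
      (∏ b, lam b ^ wt D j₁ q b) * ∏ b, mu b ^ wt D j₂ q b ≠ 1)
    (hN₁ : ∀ lam, E₁ lam → ∀ a, lam a ^ N = 1) (hN₂ : ∀ mu, E₂ mu → ∀ a, mu a ^ N = 1)
    (P₁ : ∀ L ∈ LT (n₁ + 2) K, ∀ U ∈ UT (n₁ + 2) K, ∃ x y : Matrix.SpecialLinearGroup (Fin (n₁ + 2)) K,
      L * U = x * y ∧ Ev i E₁ x ∧ Ev i E₁ y)
    (P₂ : ∀ L ∈ LT (n₂ + 2) K, ∀ U ∈ UT (n₂ + 2) K, ∃ x y : Matrix.SpecialLinearGroup (Fin (n₂ + 2)) K,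
      L * U = x * y ∧ Ev i E₂ x ∧ Ev i E₂ y) (g : ↥(D.group K)) :
    ∃ a b : ↥(D.group K), g = a * b ∧ a ^ N = 1 ∧ b ^ N = 1 := by
  obtain ⟨p, hpc⟩ := CharP.exists K
  have := Fintype.ofFinite K
  have : Fact p.Prime := ⟨(CharP.char_is_prime_or_zero K p).resolve_right (CharP.char_ne_zero_of_finite K p)⟩
  have := finite_W hp M.toCoxeterSystem
  have : Nonempty (Fin l) := ⟨⟨0, hl⟩⟩
  have hcm := comm_phi₂ hp T₁ T₂ hcom hφ₁ hφ₂
  have hpow : ∀ {x : Matrix.SpecialLinearGroup (Fin (n₁ + 2)) K} {y : Matrix.SpecialLinearGroup (Fin (n₂ + 2)) K},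
      Ev i E₁ x → Ev i E₂ y → (φ₁ x * φ₂ y) ^ N = 1 := by
    intro x y hx hy
    obtain ⟨lam, h1, h2, h3⟩ := hx
    obtain ⟨mu, g1, g2, g3⟩ := hy
    have hc : Commute (φ₁ x) (φ₂ y) := hcm x y
    rw [hc.mul_pow, ← map_pow, ← map_pow, pow_eq_one h2 h3 (hN₁ lam h1), pow_eq_one g2 g3 (hN₂ mu g1), map_one, map_one,
      mul_one]
  by_cases hg : g ∈ (RGD.B M.toCoxeterSystem hp.isCartan (TT D K) (XX D l K)).normalCore
  · rw [one_of_core hp hl hG.1 hg]
    exact ⟨1, 1, by simp, one_pow _, one_pow _⟩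
  · obtain ⟨c₁, c₂, x, y, ⟨h1, h2⟩, h3⟩ := Cfsg.Agent.H928.Ore.Frame.pair (rgd (K := K) hp M.toCoxeterSystem p)
      (G1_eq_top hp _) (coord hp) (Cfsg.Agent.Nodes.ChevChart.irr_of hM) (J := {k | k ∈ J})
      (Pr := fun c₁ c₂ : ↥(D.group K) => c₁ ^ N = 1 ∧ c₂ ^ N = 1) (fun v hv w hw => by
        obtain ⟨L₁, hL₁, L₂, hL₂, rfl⟩ := UNJ_mem₂ hp T₁ T₂ hsub hcom hφ₁ hφ₂ hv
        obtain ⟨U₁, hU₁, U₂, hU₂, rfl⟩ := UJ_mem₂ hp T₁ T₂ hsub hcom hφ₁ hφ₂ hw
        obtain ⟨x, y, e1, hx, hy⟩ := P₁ L₁ hL₁ U₁ hU₁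
        obtain ⟨x', y', e2, hx', hy'⟩ := P₂ L₂ hL₂ U₂ hU₂
        refine ⟨φ₁ x * φ₂ x', φ₁ y * φ₂ y', ?_, ⟨mul_mem (phi_mem₁ hp T₁ hφ₁ x) (phi_mem₁ hp T₂ hφ₂ x'),
          mul_mem (phi_mem₁ hp T₁ hφ₁ y) (phi_mem₁ hp T₂ hφ₂ y'), (nf₂ hp T₁ T₂ hcom hφ₁ hφ₂ i hout hx hx').2,
          (nf₂ hp T₁ T₂ hcom hφ₁ hφ₂ i hout hy hy').1⟩, hpow hx hx', hpow hy hy'⟩
        calc φ₁ L₁ * φ₂ L₂ * (φ₁ U₁ * φ₂ U₂) = φ₁ L₁ * (φ₂ L₂ * φ₁ U₁) * φ₂ U₂ := by group
          _ = φ₁ L₁ * (φ₁ U₁ * φ₂ L₂) * φ₂ U₂ := by rw [hcm U₁ L₂]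
          _ = φ₁ (L₁ * U₁) * φ₂ (L₂ * U₂) := by rw [map_mul, map_mul]; group
          _ = φ₁ x * (φ₁ y * φ₂ x') * φ₂ y' := by rw [e1, e2, map_mul, map_mul]; group
          _ = φ₁ x * (φ₂ x' * φ₁ y) * φ₂ y' := by rw [hcm y x']
          _ = _ := by group) hg
    exact ⟨_, _, h3, by rw [conj_pow, h1, mul_one, mul_inv_cancel], by rw [conj_pow, h2, mul_one, mul_inv_cancel]⟩

end

end Cfsg.Agent.H85.Pw.TwoS
end

-- part: H194/Pw/SixAll_mg
section
prune_inst 0x40024040000020000000000002020200000010000030800288001000501024081800f60a0a00102020402010001000000000000400000000a000400000101000088000020000000000008000000000000000000000000000000000000000000000000000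
set_option linter.all false
open scoped Cfsg.Agent.FastGrp

-- part: H194/Pw/Blk
section
/-!
# `L U` in `SL_{m+n}(K)` from `SL_m(K)` and `SL_n(K)` (S2465)

* `exists_block` : if every `L U` in `SL_m(K)`, `SL_n(K)` is a product of two elements with `P₁`, `P₂`, then every `L U` in
  `SL_{m+n}(K)` is a product of two elements whose characteristic polynomials are the products of those of elements with `P₁`
  and `P₂`;
* `ev_block` : the same for the eigenvalues, `E₁` for the first block, `E₂` for the second.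
-/

set_option autoImplicit false

namespace Cfsg.Agent.H194.Pw

open Matrix Polynomial
open Cfsg.Agent.H162.GaussSL (UT LT mem_UT mem_LT)
open Cfsg.Agent.H85.Pw (Ev E₁ E₂ ne_zero_of_prod)

universe u

section

variable {m n : ℕ} {K : Type*} [Field K]

/-- the characteristic polynomial of `x` is that of `x₁` times that of `x₂` -/
def ChMul (P₁ : Matrix.SpecialLinearGroup (Fin m) K → Prop) (P₂ : Matrix.SpecialLinearGroup (Fin n) K → Prop)
    (x : Matrix.SpecialLinearGroup (Fin (m + n)) K) : Prop :=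
  ∃ x₁, P₁ x₁ ∧ ∃ x₂, P₂ x₂ ∧ x.1.charpoly = x₁.1.charpoly * x₂.1.charpoly

/-- the corner blocks of a lower unitriangular matrix -/
theorem lt_blocks {L : Matrix.SpecialLinearGroup (Fin (m + n)) K} (hL : L ∈ _root_.Cfsg.Agent.H162.GaussSL.LT (m + n) K) :
    ∃ L₁ ∈ _root_.Cfsg.Agent.H162.GaussSL.LT m K, ∃ L₂ ∈ _root_.Cfsg.Agent.H162.GaussSL.LT n K, ∃ C : Matrix (Fin n) (Fin m) K,
      L.1.submatrix finSumFinEquiv finSumFinEquiv = fromBlocks L₁.1 0 C L₂.1 := by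
  rw [mem_LT] at hL
  obtain ⟨M, hM⟩ : ∃ M, M = L.1.submatrix (finSumFinEquiv (m := m) (n := n)) finSumFinEquiv := ⟨_, rfl⟩
  have h12 : M.toBlocks₁₂ = 0 := by
    ext a b
    rw [hM]
    change L.1 (Fin.castAdd n a) (Fin.natAdd m b) = 0
    refine hL.1 _ _ ?_
    rw [Fin.lt_def, Fin.val_castAdd, Fin.val_natAdd]
    omega
  have h1 : M.toBlocks₁₁.BlockTriangular OrderDual.toDual := by
    intro a b hab
    rw [hM]
    change L.1 (Fin.castAdd n a) (Fin.castAdd n b) = 0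
    refine hL.1 _ _ ?_
    rw [Fin.lt_def, Fin.val_castAdd, Fin.val_castAdd]
    exact hab
  have h1' : ∀ a, M.toBlocks₁₁ a a = 1 := fun a => by
    rw [hM]
    exact hL.2 _
  have h2 : M.toBlocks₂₂.BlockTriangular OrderDual.toDual := by
    intro a b hab
    rw [hM]
    change L.1 (Fin.natAdd m a) (Fin.natAdd m b) = 0
    refine hL.1 _ _ ?_
    rw [Fin.lt_def, Fin.val_natAdd, Fin.val_natAdd]
    exact Nat.add_lt_add_left hab m
  have h2' : ∀ a, M.toBlocks₂₂ a a = 1 := fun a => by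
    rw [hM]
    exact hL.2 _
  refine ⟨⟨M.toBlocks₁₁, ?_⟩, mem_LT.2 ⟨fun a b hab => h1 hab, h1'⟩, ⟨M.toBlocks₂₂, ?_⟩,
    mem_LT.2 ⟨fun a b hab => h2 hab, h2'⟩, M.toBlocks₂₁, ?_⟩
  · rw [det_of_isLowerTriangular _ h1]
    exact Finset.prod_eq_one fun a _ => h1' a
  · rw [det_of_isLowerTriangular _ h2]
    exact Finset.prod_eq_one fun a _ => h2' a
  · change _ = fromBlocks M.toBlocks₁₁ 0 M.toBlocks₂₁ M.toBlocks₂₂
    rw [← h12, fromBlocks_toBlocks, hM]

/-- the corner blocks of an upper unitriangular matrix -/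
theorem ut_blocks {U : Matrix.SpecialLinearGroup (Fin (m + n)) K} (hU : U ∈ UT (m + n) K) :
    ∃ U₁ ∈ UT m K, ∃ U₂ ∈ UT n K, ∃ B : Matrix (Fin m) (Fin n) K,
      U.1.submatrix finSumFinEquiv finSumFinEquiv = fromBlocks U₁.1 B 0 U₂.1 := by
  rw [mem_UT] at hU
  obtain ⟨M, hM⟩ : ∃ M, M = U.1.submatrix (finSumFinEquiv (m := m) (n := n)) finSumFinEquiv := ⟨_, rfl⟩
  have h21 : M.toBlocks₂₁ = 0 := by
    ext a b
    rw [hM]
    change U.1 (Fin.natAdd m a) (Fin.castAdd n b) = 0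
    refine hU.1 _ _ ?_
    rw [Fin.lt_def, Fin.val_castAdd, Fin.val_natAdd]
    omega
  have h1 : M.toBlocks₁₁.BlockTriangular id := by
    intro a b hab
    rw [hM]
    change U.1 (Fin.castAdd n a) (Fin.castAdd n b) = 0
    refine hU.1 _ _ ?_
    rw [Fin.lt_def, Fin.val_castAdd, Fin.val_castAdd]
    exact hab
  have h1' : ∀ a, M.toBlocks₁₁ a a = 1 := fun a => by
    rw [hM]
    exact hU.2 _
  have h2 : M.toBlocks₂₂.BlockTriangular id := by
    intro a b hab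
    rw [hM]
    change U.1 (Fin.natAdd m a) (Fin.natAdd m b) = 0
    refine hU.1 _ _ ?_
    rw [Fin.lt_def, Fin.val_natAdd, Fin.val_natAdd]
    exact Nat.add_lt_add_left hab m
  have h2' : ∀ a, M.toBlocks₂₂ a a = 1 := fun a => by
    rw [hM]
    exact hU.2 _
  refine ⟨⟨M.toBlocks₁₁, ?_⟩, mem_UT.2 ⟨fun a b hab => h1 hab, h1'⟩, ⟨M.toBlocks₂₂, ?_⟩,
    mem_UT.2 ⟨fun a b hab => h2 hab, h2'⟩, M.toBlocks₁₂, ?_⟩
  · rw [det_of_isUpperTriangular h1]
    exact Finset.prod_eq_one fun a _ => h1' a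
  · rw [det_of_isUpperTriangular h2]
    exact Finset.prod_eq_one fun a _ => h2' a
  · change _ = fromBlocks M.toBlocks₁₁ M.toBlocks₁₂ 0 M.toBlocks₂₂
    rw [← h21, fromBlocks_toBlocks, hM]

/-- an element of `SL_{m+n}(K)` from a block matrix -/
theorem exists_sl {M : Matrix (Fin m ⊕ Fin n) (Fin m ⊕ Fin n) K} (h : M.det = 1) :
    ∃ x : Matrix.SpecialLinearGroup (Fin (m + n)) K, x.1.submatrix finSumFinEquiv finSumFinEquiv = M ∧
      x.1.charpoly = M.charpoly := by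
  refine ⟨⟨Matrix.reindex finSumFinEquiv finSumFinEquiv M, ?_⟩, ?_, ?_⟩
  · rw [Matrix.det_reindex_self, h]
  · change (M.submatrix _ _).submatrix _ _ = M
    rw [Matrix.submatrix_submatrix]
    simp
  · exact Matrix.charpoly_reindex _ _

/-- **`L U` from the blocks.** -/
theorem exists_block {P₁ : Matrix.SpecialLinearGroup (Fin m) K → Prop} {P₂ : Matrix.SpecialLinearGroup (Fin n) K → Prop}
    (h₁ : ∀ L ∈ _root_.Cfsg.Agent.H162.GaussSL.LT m K, ∀ U ∈ UT m K, ∃ x y : Matrix.SpecialLinearGroup (Fin m) K, L * U = x * y ∧ P₁ x ∧ P₁ y)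
    (h₂ : ∀ L ∈ _root_.Cfsg.Agent.H162.GaussSL.LT n K, ∀ U ∈ UT n K, ∃ x y : Matrix.SpecialLinearGroup (Fin n) K, L * U = x * y ∧ P₂ x ∧ P₂ y) :
    ∀ L ∈ _root_.Cfsg.Agent.H162.GaussSL.LT (m + n) K, ∀ U ∈ UT (m + n) K, ∃ x y : Matrix.SpecialLinearGroup (Fin (m + n)) K, L * U = x * y ∧
      ChMul P₁ P₂ x ∧ ChMul P₁ P₂ y := by
  intro L hL U hU
  obtain ⟨L₁, hL₁, L₂, hL₂, C, eL⟩ := lt_blocks hL
  obtain ⟨U₁, hU₁, U₂, hU₂, B, eU⟩ := ut_blocks hU
  obtain ⟨x₁, y₁, e₁, hx₁, hy₁⟩ := h₁ L₁ hL₁ U₁ hU₁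
  obtain ⟨x₂, y₂, e₂, hx₂, hy₂⟩ := h₂ L₂ hL₂ U₂ hU₂
  have e₁' : L₁.1 * U₁.1 = x₁.1 * y₁.1 := congrArg Subtype.val e₁
  have e₂' : L₂.1 * U₂.1 = x₂.1 * y₂.1 := congrArg Subtype.val e₂
  have hLi : (L₁⁻¹ : Matrix.SpecialLinearGroup (Fin m) K).1 * L₁.1 = 1 := congrArg Subtype.val (inv_mul_cancel L₁)
  have hUi : U₁.1 * (U₁⁻¹ : Matrix.SpecialLinearGroup (Fin m) K).1 = 1 := congrArg Subtype.val (mul_inv_cancel U₁)
  obtain ⟨x, ex, cx⟩ := exists_sl (M := fromBlocks x₁.1 0 (C * (L₁⁻¹ : Matrix.SpecialLinearGroup (Fin m) K).1 * x₁.1) x₂.1)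
    (by rw [det_fromBlocks_zero₁₂, x₁.2, x₂.2, one_mul])
  obtain ⟨y, ey, cy⟩ := exists_sl (M := fromBlocks y₁.1 (y₁.1 * ((U₁⁻¹ : Matrix.SpecialLinearGroup (Fin m) K).1 * B)) 0 y₂.1)
    (by rw [det_fromBlocks_zero₂₁, y₁.2, y₂.2, one_mul])
  rw [charpoly_fromBlocks_zero₁₂] at cx
  rw [charpoly_fromBlocks_zero₂₁] at cy
  refine ⟨x, y, ?_, ⟨x₁, hx₁, x₂, hx₂, cx⟩, ⟨y₁, hy₁, y₂, hy₂, cy⟩⟩
  have key : (L * U).1.submatrix (finSumFinEquiv (m := m) (n := n)) finSumFinEquiv =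
      (x * y).1.submatrix (finSumFinEquiv (m := m) (n := n)) finSumFinEquiv := by
    change (L.1 * U.1).submatrix _ _ = (x.1 * y.1).submatrix _ _
    rw [← Matrix.submatrix_mul_equiv L.1 U.1 _ (finSumFinEquiv (m := m) (n := n)) _,
      ← Matrix.submatrix_mul_equiv x.1 y.1 _ (finSumFinEquiv (m := m) (n := n)) _, eL, eU, ex, ey,
      fromBlocks_multiply, fromBlocks_multiply]
    simp only [Matrix.zero_mul, Matrix.mul_zero, add_zero]
    have k1 : x₁.1 * (y₁.1 * ((U₁⁻¹ : Matrix.SpecialLinearGroup (Fin m) K).1 * B)) = L₁.1 * B := by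
      rw [← Matrix.mul_assoc, ← e₁', Matrix.mul_assoc L₁.1, ← Matrix.mul_assoc U₁.1, hUi, Matrix.one_mul]
    have k2 : C * (L₁⁻¹ : Matrix.SpecialLinearGroup (Fin m) K).1 * x₁.1 * y₁.1 = C * U₁.1 := by
      rw [Matrix.mul_assoc (C * _), ← e₁', Matrix.mul_assoc C, ← Matrix.mul_assoc _ L₁.1, hLi, Matrix.one_mul]
    have k3 : C * (L₁⁻¹ : Matrix.SpecialLinearGroup (Fin m) K).1 * x₁.1 *
        (y₁.1 * ((U₁⁻¹ : Matrix.SpecialLinearGroup (Fin m) K).1 * B)) = C * B := by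
      rw [← Matrix.mul_assoc, k2, Matrix.mul_assoc C, ← Matrix.mul_assoc U₁.1, hUi, Matrix.one_mul]
    rw [k1, k2, k3, e₁', e₂']
  apply Subtype.ext
  have h3 := congrArg (fun M : Matrix (Fin m ⊕ Fin n) (Fin m ⊕ Fin n) K =>
    M.submatrix (finSumFinEquiv (m := m) (n := n)).symm (finSumFinEquiv (m := m) (n := n)).symm) key
  simp only [Matrix.submatrix_submatrix] at h3
  simpa only [_root_.Matrix.SpecialLinearGroup.coe_mul, _root_.Equiv.self_comp_symm, _root_.Matrix.submatrix_id_id] using h3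

end

/-! ### The eigenvalues -/

section

variable {k₁ k₂ m n : ℕ} {K : Type u} [Field K] {K' : Type} [Field K'] {i : K →+* K'}

/-- the eigenvalues of the two blocks -/
def Ebl (k₁ k₂ m n : ℕ) {K' : Type} [Field K'] (lam : Fin (k₁ + k₂) → K') : Prop :=
  E₁ m n (fun a : Fin k₁ => lam (Fin.castAdd k₂ a)) ∧ E₂ m n (fun a : Fin k₂ => lam (Fin.natAdd k₁ a))

theorem ev_block {x : Matrix.SpecialLinearGroup (Fin (k₁ + k₂)) K} (hx : ChMul (Ev i (E₁ m n)) (Ev i (E₂ m n)) x) :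
    Ev i (Ebl k₁ k₂ m n) x := by
  obtain ⟨x₁, ⟨lam, h1, h2, h3⟩, x₂, ⟨mu, g1, g2, g3⟩, e⟩ := hx
  refine ⟨Fin.append lam mu, ⟨?_, ?_⟩, ?_, ?_⟩
  · simpa only [Fin.append_left] using h1
  · simpa only [Fin.append_right] using g1
  · intro a b hab
    refine Fin.addCases (fun a hab => ?_) (fun a hab => ?_) a hab <;>
      refine Fin.addCases (fun b hab => ?_) (fun b hab => ?_) b hab
    · rw [Fin.append_left, Fin.append_left] at hab
      rw [h2 hab]
    · rw [Fin.append_left, Fin.append_right] at hab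
      exact absurd (hab ▸ (g1.2.2 b).1) (h1.2.2 a)
    · rw [Fin.append_left, Fin.append_right] at hab
      exact absurd (hab ▸ (g1.2.2 a).1) (h1.2.2 b)
    · rw [Fin.append_right, Fin.append_right] at hab
      rw [g2 hab]
  · rw [e, Polynomial.map_mul, h3, g3, Fin.prod_univ_add]
    simp only [Fin.append_left, Fin.append_right]

/-- **`L U` in `SL_{k₁+k₂}(K)`.** -/
theorem p_block
    (P₁ : ∀ L ∈ _root_.Cfsg.Agent.H162.GaussSL.LT k₁ K, ∀ U ∈ UT k₁ K, ∃ x y : Matrix.SpecialLinearGroup (Fin k₁) K,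
      L * U = x * y ∧ Ev i (E₁ m n) x ∧ Ev i (E₁ m n) y)
    (P₂ : ∀ L ∈ _root_.Cfsg.Agent.H162.GaussSL.LT k₂ K, ∀ U ∈ UT k₂ K, ∃ x y : Matrix.SpecialLinearGroup (Fin k₂) K,
      L * U = x * y ∧ Ev i (E₂ m n) x ∧ Ev i (E₂ m n) y) :
    ∀ L ∈ _root_.Cfsg.Agent.H162.GaussSL.LT (k₁ + k₂) K, ∀ U ∈ UT (k₁ + k₂) K, ∃ x y : Matrix.SpecialLinearGroup (Fin (k₁ + k₂)) K,
      L * U = x * y ∧ Ev i (Ebl k₁ k₂ m n) x ∧ Ev i (Ebl k₁ k₂ m n) y := by
  intro L hL U hU
  obtain ⟨x, y, e, hx, hy⟩ := exists_block P₁ P₂ L hL U hU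
  exact ⟨x, y, e, ev_block hx, ev_block hy⟩

end

end Cfsg.Agent.H194.Pw
end

-- part: H155/TG/Exc
section
/-!
# Thompson's class square conjecture for the exceptional types over fields with at least 9 elements (helper155)
-/

set_option autoImplicit false
set_option linter.unusedSectionVars false

namespace Cfsg.Agent.H155.TG

open CoxeterSystem Cfsg.Agent.ChevalleyStructure.CoxeterGeom Cfsg.Agent.Tits.Roots Cfsg.Agent.Tits.Core
  Cfsg.Agent.Nodes.Reps Cfsg.Agent.Nodes.BNOf Cfsg.Agent.Nodes.StabComb Cfsg.Agent.Nodes.Bruhat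
  Cfsg.Agent.Nodes.OppDec Cfsg.Agent.Nodes.RGDChev Cfsg.Agent.KFacts.RgdOpp
  Cfsg.Agent.KFacts.RgdAut Cfsg.Agent.KFacts.RgdDiag Cfsg.Agent.KFacts.RgdRigid
  Cfsg.Agent.KFacts.RgdField Cfsg.Agent.KFacts.RgdTau Cfsg.Agent.KFacts.RgdChevCoord
  Cfsg.Agent.Nodes.FreeTorus
open Cfsg.Lie Cfsg.Agent.ChevalleyStructure Cfsg.Agent.ChevalleyStructure.Elts
  Cfsg.Agent.ChevalleyStructure.RootVec Cfsg.Agent.ChevalleyStructure.RootVecTab
  Cfsg.Agent.ChevalleyStructure.NPerm Cfsg.Agent.ChevalleyStructure.CoxeterGeomTypes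
  Cfsg.Agent.TitsThree.KExcRT Cfsg.Agent.AGraded
open Matrix Matrix.SpecialLinearGroup
open scoped commutatorElement MatrixGroups

universe u

variable {D : ChevalleyDatum} {l : ℕ} {M : CoxeterMatrix (Fin l)} (hp : IsType D l M) {K : Type u} [Field K]

theorem exists_phi2 (j : Fin l) {r : Fin 2 → Fin 2 → ℕ} {s : Fin 2 → Fin 2 → ℤ} (h1 : r 0 1 = D.simple j)
    (h2 : r 1 0 = D.neg (D.simple j)) (h3 : s 0 1 = 1) (h4 : s 1 0 = 1) :
    ∃ φ : Matrix.SpecialLinearGroup (Fin 2) K →* ↥(D.group K),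
      ∀ i j (hij : i ≠ j) a, φ (Matrix.SpecialLinearGroup.transvection hij a) =
        xc hp (_root_.Cfsg.Agent.Nodes.RGDChev.vec D l (r i j)) ((s i j : K) * a) := by
  classical
  obtain ⟨π, hx, hy, -⟩ := exists_phi (K := K) hp j
  have hs := _root_.Cfsg.Agent.ChevalleyStructure.NPerm.simple_lt hp.inList (lt_rank hp j)
  have hs' := _root_.Cfsg.Agent.ChevalleyStructure.NPerm.neg_lt hp.inList hs
  have e1 : ∀ (h : (0 : Fin 2) ≠ 1) (a : K), Matrix.SpecialLinearGroup.transvection h a = sx a := by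
    intro h a
    apply Subtype.ext
    show (1 + single 0 1 a : Matrix _ _ K) = !![1, a; 0, 1]
    ext i j
    (revert i j; simp only [_root_.Fin.forall_fin_succ, Fin.isValue, _root_.Matrix.add_apply, _root_.Matrix.of_apply, _root_.Matrix.cons_val', _root_.Matrix.cons_val_fin_one, _root_.one_ne_zero, _root_.and_false, _root_.not_false_eq_true, _root_.Matrix.single_apply_of_ne, _root_.add_zero, _root_.Matrix.cons_val_zero, _root_.Matrix.cons_val_succ, _root_.Fin.succ_zero_eq_one, _root_.IsEmpty.forall_iff, _root_.and_true, _root_.Matrix.one_apply_eq, Nat.reduceAdd, _root_.ne_eq, _root_.zero_ne_one, _root_.Matrix.one_apply_ne, _root_.Matrix.single_apply_same, _root_.zero_add, _root_.and_self, _root_.Fin.succ_ne_zero, _root_.true_and])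
  have e2 : ∀ (h : (1 : Fin 2) ≠ 0) (a : K), Matrix.SpecialLinearGroup.transvection h a = sy a := by
    intro h a
    apply Subtype.ext
    show (1 + single 1 0 a : Matrix _ _ K) = !![1, 0; a, 1]
    ext i j
    (revert i j; simp only [_root_.Fin.forall_fin_succ, Fin.isValue, _root_.Matrix.add_apply, _root_.Matrix.of_apply, _root_.Matrix.cons_val', _root_.Matrix.cons_val_fin_one, _root_.Matrix.cons_val_zero, _root_.Matrix.cons_val_succ, _root_.Fin.succ_zero_eq_one, _root_.zero_ne_one, _root_.and_false, _root_.not_false_eq_true, _root_.Matrix.single_apply_of_ne, _root_.add_zero, _root_.IsEmpty.forall_iff, _root_.and_true, _root_.Matrix.one_apply_eq, _root_.one_ne_zero, Nat.reduceAdd, _root_.ne_eq, _root_.Matrix.one_apply_ne, _root_.and_self, _root_.Fin.succ_ne_zero, _root_.zero_add, _root_.Matrix.single_apply_same])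
  have key : ∀ i j (hij : i ≠ j) (a : K), π (Matrix.SpecialLinearGroup.transvection hij a) =
      xG hp.inList (r i j) ((s i j : K) * a) := by
    intro i j hij a
    have hc : (i = 0 ∧ j = 1) ∨ (i = 1 ∧ j = 0) := by omega
    rcases hc with ⟨rfl, rfl⟩ | ⟨rfl, rfl⟩
    · rw [e1, hx, h1, h3, Int.cast_one, one_mul]
    · rw [e2, hy, h2, h4, Int.cast_one, one_mul]
  have hr : ∀ i j, i ≠ j → r i j < D.nroots := by
    intro i j hij
    have hc : (i = 0 ∧ j = 1) ∨ (i = 1 ∧ j = 0) := by omega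
    rcases hc with ⟨rfl, rfl⟩ | ⟨rfl, rfl⟩
    · rw [h1]; exact hs
    · rw [h2]; exact hs'
  have hmem : ∀ g, π g ∈ D.group K := by
    refine SL_le π _ fun i j hij a => ?_
    rw [key i j hij]
    exact xG_mem_group hp.inList _ _
  refine ⟨π.codRestrict (D.group K) hmem, fun i j hij a => ?_⟩
  apply Subtype.ext
  show π _ = ((xc hp (_root_.Cfsg.Agent.Nodes.RGDChev.vec D l (r i j)) ((s i j : K) * a) : ↥(D.group K)) : GL D.Idx K)
  rw [key i j hij, coe_xc hp (hr i j hij)]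

end Cfsg.Agent.H155.TG
end

-- part: H194/Pw/SixAll
section
/-!
# `E₆(q)`, `q ≥ 4`: products of two elements of order prime to `6` (S2465)

The Levi subgroup of type `A₄ A₁`; the elements `(x₅, x₂)`, `x₅` with the eigenvalues `a₁, a₂, a₃, b, b⁻¹`, `x₂` with the
eigenvalues `x, x⁻¹`, `b ^ m = x ^ m = 1`, `a_i ^ m ≠ 1`.

* `T5`, `T1`, `sub51`, `com51`, `out51` : the tables;
* `all_E6_of` : `All n (E₆(q))` from products in `SL₃(q)`, `SL₂(q)`;
* `six_E6` : `All 6 (E₆(q))` for `q = 2 ^ a`, `3 ^ a`, `q ≥ 4`.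
-/

set_option autoImplicit false
set_option linter.unusedSectionVars false

namespace Cfsg.Agent.H194.Pw

open Cfsg.Agent.Nodes.RGDChev Cfsg.Agent.Nodes.KindChev Cfsg.Agent.OddHalf.NI.ModelChev Cfsg.Agent.KFacts.RgdChevCoord
open Cfsg.Lie Cfsg.Agent.ChevalleyStructure Cfsg.Agent.ChevalleyStructure.RootVec
  Cfsg.Agent.ChevalleyStructure.CoxeterGeomTypes
open Cfsg.Agent.TitsThree.KExcRT Cfsg.Agent.AGraded
open Cfsg.Agent.H482.Ore.Fix (wt)
open Cfsg.Agent.H162.GaussSL (UT LT)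
open Cfsg.Agent.H85.Pw Cfsg.Agent.H78.Pw
open Cfsg.Agent.H150.E6T (hp6)

universe u

/-! ### The tables -/

/-- the roots of the block of the node `6` -/
def r51 : Fin 2 → Fin 2 → ℕ := ![![0, 36], ![35, 0]]

/-- the node `6` -/
def j51 : Fin 1 → Fin 6 := ![5]

theorem ch51 : (∀ a b, a ≠ b → r51 a b < chevE6.nroots) ∧ (∀ a b, a ≠ b → ∀ k, k ∉ J5 → vec chevE6 6 (r51 a b) k = 0) ∧
    (∀ i j, i ≠ j → r51 j i = chevE6.neg (r51 i j)) ∧ ∀ a : Fin 1, r51 a.castSucc a.succ = chevE6.simple (j51 a) := by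
  decide +kernel

theorem T5 : TwoS.Tb hp6 J5 3 r5 j5 s5 where
  eps := rt5.2.2.2.1
  sym := rt5.2.2.2.2.1
  up := simp5.1
  neg := rt5.2.2.2.2.2
  rlt := rt5.1
  rJ := r5_J
  hom F _ := exists_phi5 F

theorem T1 : TwoS.Tb hp6 J5 0 r51 j51 (fun _ _ => 1) where
  eps := by norm_num
  sym := by norm_num
  up := ch51.2.2.2
  neg := ch51.2.2.1
  rlt := ch51.1
  rJ := ch51.2.1
  hom F _ := Cfsg.Agent.H155.TG.exists_phi2 (K := F) hp6 5 (r := r51) (s := fun _ _ => 1)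
    (ch51.2.2.2 0) ((ch51.2.2.1 0 1 (by decide)).trans (congrArg _ (ch51.2.2.2 0))) rfl rfl

theorem sub51 : Sub2 chevE6 6 J5 3 0 r5 r51 := by decide +kernel

theorem com51 : Com2 chevE6 3 0 r5 r51 := by (refine of_decide_eq_true ?_; delta Cfsg.Agent.H85.Pw.Com2 Cfsg.Agent.H85.Pw.instDecidableCom2; rewrite [Cfsg.Agent.ChevFast.E6.commTerms, Cfsg.Agent.ChevFast.E6.neg]; decide +kernel)

/-- the weights of the roots outside the Levi subgroup -/
theorem out51 : ∀ q < chevE6.nroots, (∃ k : Fin 6, k ∉ J5 ∧ vec chevE6 6 q k ≠ 0) →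
    (∃ a b : Fin 5, a < b ∧ ((∀ k, wt chevE6 j5 q k = ind a b k - ind a b 4) ∨
      ∀ k, wt chevE6 j5 q k = -ind a b k + ind a b 4) ∧
      (wt chevE6 j51 q 0 - wt chevE6 j51 q 1 = 1 ∨ wt chevE6 j51 q 0 - wt chevE6 j51 q 1 = -1)) ∨
    ∃ a : Fin 5, ((∀ k, wt chevE6 j5 q k = ind a a k - ind a a 4) ∨
      ∀ k, wt chevE6 j5 q k = -ind a a k + ind a a 4) ∧ wt chevE6 j51 q 0 - wt chevE6 j51 q 1 = 0 := by
  intro q hq
  revert q
  refine @of_decide_eq_true _ ?_ ?_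
  · refine @Nat.decidableBallLT _ _ fun q _ => ?_
    refine @instDecidableForall _ _ inferInstance ?_
    refine @instDecidableOr _ _ ?_ ?_
    · refine @Fintype.decidableExistsFintype _ _ (fun a => ?_) _
      refine @Fintype.decidableExistsFintype _ _ (fun b => ?_) _
      infer_instance
    · refine @Fintype.decidableExistsFintype _ _ (fun a => ?_) _
      infer_instance
  · (delta Cfsg.Agent.H482.Ore.Fix.wt; rewrite [Cfsg.Agent.ChevFast.E6.cartan]; decide +kernel)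

/-! ### The values of the roots -/

section

variable {K' : Type} [Field K'] {m n : ℕ}

theorem Ebl.prod {k₁ k₂ : ℕ} {lam : Fin (k₁ + k₂) → K'} (h : Ebl k₁ k₂ m n lam) : ∏ a, lam a = 1 := by
  rw [Fin.prod_univ_add, h.1.1, h.2.1, one_mul]

/-- the product of two of the eigenvalues of the second block -/
theorem pair_ne {lam : Fin 5 → K'} (h : Ebl 3 2 m n lam) {a b : Fin 5} (hab : a < b) :
    lam a * lam b = 1 ∨ (lam a * lam b) ^ m ≠ 1 := by
  have hp : lam 0 * lam 1 * lam 2 = 1 := by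
    have := h.1.1
    rwa [Fin.prod_univ_three] at this
  have hs : lam 3 * lam 4 = 1 := by
    have := h.2.1
    rwa [Fin.prod_univ_two] at this
  have e0 : lam 0 ^ m ≠ 1 := h.1.2.2 0
  have e1 : lam 1 ^ m ≠ 1 := h.1.2.2 1
  have e2 : lam 2 ^ m ≠ 1 := h.1.2.2 2
  have e3 : lam 3 ^ m = 1 := (h.2.2.2 0).1
  have e4 : lam 4 ^ m = 1 := (h.2.2.2 1).1
  have key : ∀ x y : K', x * y = 1 → y ^ m ≠ 1 → x ^ m ≠ 1 := by
    intro x y hxy hy hx
    apply hy
    have := congrArg (· ^ m) hxy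
    simpa only [mul_pow, hx, _root_.one_mul, _root_.one_pow] using this
  have hd : ∀ x y : K', x ^ m ≠ 1 → y ^ m = 1 → (x * y) ^ m ≠ 1 := by
    intro x y hx hy h
    rw [mul_pow, hy, mul_one] at h
    exact hx h
  have k01 := key (lam 0 * lam 1) (lam 2) hp e2
  have k02 := key (lam 0 * lam 2) (lam 1) (by rw [← hp]; ring) e1
  have k12 := key (lam 1 * lam 2) (lam 0) (by rw [← hp]; ring) e0
  fin_cases a <;> fin_cases b <;> [(exact absurd hab (by decide)); exact .inr k01; exact .inr k02; exact .inr (hd _ _ e0 e3); exact .inr (hd _ _ e0 e4); (exact absurd hab (by decide));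
                                   (exact absurd hab (by decide)); exact .inr k12; exact .inr (hd _ _ e1 e3); exact .inr (hd _ _ e1 e4); (exact absurd hab (by decide));
                                   (exact absurd hab (by decide)); (exact absurd hab (by decide)); exact .inr (hd _ _ e2 e3); exact .inr (hd _ _ e2 e4); (exact absurd hab (by decide));
                                   (exact absurd hab (by decide)); (exact absurd hab (by decide)); (exact absurd hab (by decide)); exact .inl hs; (exact absurd hab (by decide));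
                                   (exact absurd hab (by decide)); (exact absurd hab (by decide)); (exact absurd hab (by decide)); (exact absurd hab (by decide))]

theorem Ebl.ne_one {k₁ k₂ : ℕ} {lam : Fin (k₁ + k₂) → K'} (h : Ebl k₁ k₂ m n lam) (a : Fin (k₁ + k₂)) : lam a ≠ 1 := by
  refine Fin.addCases (fun a => ?_) (fun a => ?_) a
  · intro h1
    apply h.1.2.2 a
    change lam (Fin.castAdd k₂ a) ^ m = 1
    rw [h1, one_pow]
  · exact (h.2.2.2 a).2

/-- the value on the block of the node `6` -/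
theorem two_val {mu : Fin 2 → K'} (h : E₂ m n mu) (w : Fin 2 → ℤ) : ∏ b, mu b ^ w b = mu 0 ^ (w 0 - w 1) := by
  have h1 : mu 0 * mu 1 = 1 := by
    have := h.1
    rwa [Fin.prod_univ_two] at this
  have h0 : mu 0 ≠ 0 := left_ne_zero_of_mul_eq_one h1
  have h2 : mu 1 = (mu 0)⁻¹ := eq_inv_of_mul_eq_one_right h1
  rw [Fin.prod_univ_two, h2, inv_zpow', ← zpow_add₀ h0, ← sub_eq_add_neg]

/-- **the values of the roots outside the Levi subgroup** -/
theorem hout51 {lam : Fin 5 → K'} (h : Ebl 3 2 m n lam) {mu : Fin 2 → K'} (h' : E₂ m n mu) {q : ℕ}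
    (hq : q < chevE6.nroots) (hk : ∃ k : Fin 6, k ∉ J5 ∧ vec chevE6 6 q k ≠ 0) :
    (∏ b, lam b ^ wt chevE6 j5 q b) * ∏ b, mu b ^ wt chevE6 j51 q b ≠ 1 := by
  have h0 : ∀ k, lam k ≠ 0 := ne_zero_of_prod h.prod
  have hmu : ∀ w : Fin 2 → ℤ, (∏ b, mu b ^ w b) ^ m = 1 := prod_pow_one fun a => (h'.2.2 a).1
  have hval : ∀ {a b : Fin 5}, ((∀ k, wt chevE6 j5 q k = ind a b k - ind a b 4) ∨
      ∀ k, wt chevE6 j5 q k = -ind a b k + ind a b 4) →
      ∏ k, lam k ^ wt chevE6 j5 q k = (if a = b then lam a else lam a * lam b) ∨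
      ∏ k, lam k ^ wt chevE6 j5 q k = (if a = b then lam a else lam a * lam b)⁻¹ := by
    intro a b hw
    rcases hw with hw | hw
    · exact .inl (prod_wt h0 h.prod hw)
    · right
      have h1 : ∏ k, lam k ^ (-wt chevE6 j5 q k) = if a = b then lam a else lam a * lam b :=
        prod_wt (c := ind a b 4) h0 h.prod fun k => by rw [hw]; ring
      rw [← h1]
      simp only [zpow_neg]
      rw [Finset.prod_inv_distrib, inv_inv]
  rcases out51 q hq hk with ⟨a, b, hab, hw, hw'⟩ | ⟨a, hw, hw'⟩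
  · have hv := hval hw
    rw [if_neg hab.ne] at hv
    rcases pair_ne h hab with h1 | h1
    · have hv' : ∏ k, lam k ^ wt chevE6 j5 q k = 1 := by
        rcases hv with hv | hv
        · rw [hv, h1]
        · rw [hv, h1, inv_one]
      rw [hv', one_mul, two_val h']
      rcases hw' with hw' | hw'
      · rw [hw', zpow_one]
        exact (h'.2.2 0).2
      · rw [hw', zpow_neg_one, ne_eq, inv_eq_one]
        exact (h'.2.2 0).2
    · intro h2
      have h3 := congrArg (· ^ m) h2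
      simp only [one_pow] at h3
      rw [mul_pow, hmu, mul_one] at h3
      rcases hv with hv | hv
      · rw [hv] at h3
        exact h1 h3
      · rw [hv, inv_pow, inv_eq_one] at h3
        exact h1 h3
  · have hv := hval hw
    rw [if_pos rfl] at hv
    rw [two_val h', hw', zpow_zero, mul_one]
    rcases hv with hv | hv
    · rw [hv]
      exact h.ne_one a
    · rw [hv, ne_eq, inv_eq_one]
      exact h.ne_one a

end

/-! ### The rows -/

/-- **`All n (E₆(q))` from products in `SL₃(q)`, `SL₂(q)`.** -/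
theorem all_E6_of {K : Type u} [Field K] [Finite K] {K' : Type} [Field K'] [Finite K'] (i : K →+* K') {m n : ℕ}
    (P₁ : ∀ L ∈ LT 3 K, ∀ U ∈ UT 3 K, ∃ x y : Matrix.SpecialLinearGroup (Fin 3) K,
      L * U = x * y ∧ Ev i (E₁ m n) x ∧ Ev i (E₁ m n) y)
    (P₂ : ∀ L ∈ LT 2 K, ∀ U ∈ UT 2 K, ∃ x y : Matrix.SpecialLinearGroup (Fin 2) K,
      L * U = x * y ∧ Ev i (E₂ m n) x ∧ Ev i (E₂ m n) y) : All n ↥(chevE6.group K) := by
  classical
  have := Fintype.ofFinite K'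
  obtain ⟨φ₁, hφ₁⟩ := exists_phi5 K
  obtain ⟨φ₂, hφ₂⟩ := Cfsg.Agent.H155.TG.exists_phi2 (K := K) hp6 5 (r := r51) (s := fun _ _ => 1)
    (ch51.2.2.2 0) ((ch51.2.2.1 0 1 (by decide)).trans (congrArg _ (ch51.2.2.2 0))) rfl rfl
  refine all_of_pairs (NN_coprime (K' := K') n) (TwoS.pairs_of_two hp6 T5 T1 sub51 com51 hφ₁ hφ₂ i
    (E₁ := Ebl 3 2 m n) (E₂ := E₂ m n) (by norm_num)
    (Cfsg.Agent.S1054.result chevE6 (by simp)) Cfsg.Agent.Nodes.ChevChart.irr6
    (fun lam h₁ mu h₂ q hq hk => hout51 h₁ h₂ hq hk) (fun lam h a => ?_)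
    (fun mu h a => pow_NN h.1 (h.2.1 a)) (p_block P₁ P₂) P₂)
  refine pow_NN h.prod ?_
  refine Fin.addCases (m := 3) (n := 2) (fun a => ?_) (fun a => ?_) a
  · exact h.1.2.1 a
  · exact h.2.2.1 a

/-- **Products in `SL₃(q)`, `SL₂(q)` of elements of order prime to `6`**, `q ≥ 4` a power of `2` or `3` -/
theorem exists_prods {K : Type u} [Field K] [Finite K] (hq : 4 ≤ Nat.card K) (h : 2 ∣ Nat.card K ∨ 3 ∣ Nat.card K) :
    ∃ (K' : Type) (_ : Field K') (_ : Finite K') (i : K →+* K') (m : ℕ),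
      (∀ L ∈ LT 3 K, ∀ U ∈ UT 3 K, ∃ x y : Matrix.SpecialLinearGroup (Fin 3) K,
        L * U = x * y ∧ Ev i (E₁ m 6) x ∧ Ev i (E₁ m 6) y) ∧
      ∀ L ∈ LT 2 K, ∀ U ∈ UT 2 K, ∃ x y : Matrix.SpecialLinearGroup (Fin 2) K,
        L * U = x * y ∧ Ev i (E₂ m 6) x ∧ Ev i (E₂ m 6) y := by
  obtain ⟨p, hpc⟩ := CharP.exists K
  have hpp : Fact p.Prime := ⟨(CharP.char_is_prime_or_zero K p).resolve_right (CharP.char_ne_zero_of_finite K p)⟩
  have := Fintype.ofFinite K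
  obtain ⟨e, -, he⟩ := FiniteField.card K p
  rw [← Nat.card_eq_fintype_card] at he
  have hK' : Nat.card (FiniteField.Extension K p 6) = Nat.card K ^ 6 := FiniteField.natCard_extension K p 6
  have h6 : ∀ {r : ℕ}, r.Prime → 5 ≤ r → r.Coprime 6 := by
    intro r hr h7
    rw [show 6 = 2 * 3 by norm_num]
    exact Nat.Coprime.mul_right ((Nat.coprime_primes hr Nat.prime_two).2 (by omega))
      ((Nat.coprime_primes hr Nat.prime_three).2 (by omega))
  by_cases h1 : Nat.card K % 3 = 1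
  · have h2 : 2 ∣ Nat.card K := by
      rcases h with h | h
      · exact h
      · omega
    have hp2 : p = 2 := by
      rw [he] at h2
      exact ((Nat.prime_dvd_prime_iff_eq Nat.prime_two hpp.1).1 (Nat.prime_two.dvd_of_dvd_pow h2)).symm
    subst hp2
    by_cases h4 : Nat.card K = 4
    · -- `q = 4`
      have hm : Nat.card K ^ 2 - 1 = 15 := by rw [h4]; norm_num
      refine ⟨_, inferInstance, inferInstance, algebraMap K (FiniteField.Extension K 2 6), Nat.card K ^ 2 - 1,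
        fun L hL U hU => ?_, p_two_ev hK' (by norm_num) (ℓ := 5) Nat.prime_five le_rfl (by rw [hm]; norm_num)
          (by rw [hm]; norm_num) (by norm_num)⟩
      obtain ⟨X, Y, h5, h6, h7, h8, h9⟩ := PThree.p_three_four h4 L U hL hU
      have key : ∀ Z : Matrix.SpecialLinearGroup (Fin 3) K, Z ^ 7 = 1 → (orderOf Z).Coprime 6 := fun Z hZ =>
        Nat.Coprime.of_dvd_left (orderOf_dvd_of_pow_eq_one hZ) (by norm_num)
      exact ⟨X, Y, h5, ev_irr hK' (by norm_num) (by norm_num) h6 (key X h8),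
        ev_irr hK' (by norm_num) (by norm_num) h7 (key Y h9)⟩
    · -- `q = 4 ^ k`, `q ≥ 16`
      have h5 : 4 < 2 ^ (e : ℕ) := by omega
      obtain ⟨ℓ, hℓ, hℓ5, hℓd⟩ := FFour.exists_five_sub (e := e) (by (clear * - h1 he; omega)) h5
      obtain ⟨ℓ', hℓ', hℓ5', hℓd'⟩ := FFour.exists_five (N := Nat.card K + 1) (by omega) (by (clear * - h2; omega)) (by omega)
      have : Fact ℓ.Prime := ⟨hℓ⟩
      obtain ⟨g, hg⟩ := exists_prime_orderOf_dvd_card' (G := Kˣ) ℓ (by rw [Nat.card_units, he]; exact hℓd)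
      have hg' : orderOf (g : K) = ℓ := by rw [orderOf_units, hg]
      refine ⟨_, inferInstance, inferInstance, algebraMap K (FiniteField.Extension K 2 6), Nat.card K + 1,
        p_nu hK' (by norm_num) g.ne_zero ?_ (FFour.coprime_six (by (clear * - h2; omega)) (by omega)) (by rw [hg']; exact h6 hℓ hℓ5),
        p_two_ev hK' (by norm_num) hℓ' hℓ5' ?_ hℓd' (h6 hℓ' hℓ5')⟩
      · intro h7
        have h8 := orderOf_dvd_of_pow_eq_one h7
        rw [hg'] at h8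
        have := Nat.le_of_dvd (by norm_num) h8
        omega
      · have h7 : Nat.card K ^ 2 - 1 = (Nat.card K + 1) * (Nat.card K - 1) := by
          have h8 := Nat.sq_sub_sq (Nat.card K) 1
          rwa [one_pow] at h8
        rw [h7]
        exact hℓd'.mul_right _
  · -- `q` is not `1` mod `3`
    obtain ⟨ℓ, hℓ, hℓ5, hℓd⟩ := Cfsg.Agent.H267.Ore.PTwo.exists_prime hq h
    exact ⟨_, inferInstance, inferInstance, algebraMap K (FiniteField.Extension K p 6), Nat.card K ^ 2 - 1,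
      p_irr hK' (by norm_num) hq (FFour.six_aux h1), p_two_ev hK' (by norm_num) hℓ hℓ5 hℓd hℓd (h6 hℓ hℓ5)⟩

/-- **`E₆(q)`, `q ≥ 4`, `q` a power of `2` or `3`** -/
theorem six_E6 {K : Type u} [Field K] [Finite K] (hK : 4 ≤ Nat.card K) (h : 2 ∣ Nat.card K ∨ 3 ∣ Nat.card K) :
    All 6 ↥(chevE6.group K) := by
  obtain ⟨K', _, _, i, m, h1, h2⟩ := exists_prods hK h
  exact all_E6_of i h1 h2

end Cfsg.Agent.H194.Pw
end

-- part: H224/Pw/Tab
section
/-!
# The blocks of type `A_5` and `A_1` of `E_7` (S2465, helper224)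

`J51` : all nodes but `2` (Bourbaki `3`); `T5`, `T1` : the tables; `hsub`, `hcom`; `hout` : the values of the roots outside `J51` on
`(lam, mu)`, `lam ^ l = 1`, `mu ^ r = 1`, `l`, `r` coprime, `lam a * lam b ≠ 1`, `mu a ≠ 1`.
-/

set_option autoImplicit false
set_option linter.unusedSectionVars false

namespace Cfsg.Agent.H224.Pw

open Cfsg.Agent.Nodes.RGDChev Cfsg.Agent.Nodes.KindChev Cfsg.Agent.OddHalf.NI.ModelChev Cfsg.Agent.KFacts.RgdChevCoord
open Cfsg.Lie Cfsg.Agent.ChevalleyStructure Cfsg.Agent.ChevalleyStructure.RootVec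
  Cfsg.Agent.ChevalleyStructure.CoxeterGeomTypes
open Cfsg.Agent.TitsThree.KExcRT Cfsg.Agent.AGraded
open Cfsg.Agent.H162.GaussExcMain (exists_hom_D)
open Cfsg.Agent.H482.Ore.Fix (wt)
open Cfsg.Agent.H85.Pw

universe u

/-- the roots of the block of type `A_5` of `E_7` (nodes `1, 3, 4, 5, 6`) -/
def r5 : Fin 6 → Fin 6 → ℕ := ![![0, 78, 79, 80, 81, 82], ![47, 0, 69, 70, 71, 72], ![46, 56, 0, 66, 67, 68],
  ![45, 55, 59, 0, 64, 65], ![44, 54, 58, 61, 0, 63], ![43, 53, 57, 60, 62, 0]]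

/-- the roots of the block of type `A_1` of `E_7` (node `0`) -/
def r1 : Fin 2 → Fin 2 → ℕ := ![![0, 93], ![32, 0]]

/-- the nodes of the blocks -/
abbrev J51 : List (Fin 7) := [0, 1, 3, 4, 5, 6]

def j5 : Fin 5 → Fin 7 := ![1, 3, 4, 5, 6]

def j1 : Fin 1 → Fin 7 := ![0]

theorem rt5 : RTa chevE7 r5 ∧ (RTb chevE7 r5 fun _ _ => -1) ∧ RTc chevE7 r5 ∧
    ∀ i j, i ≠ j → r5 j i = chevE7.neg (r5 i j) := by (refine of_decide_eq_true ?_; delta Cfsg.Agent.TitsThree.KExcRT.RTb Cfsg.Agent.TitsThree.KExcRT.RTc Cfsg.Agent.TitsThree.KExcRT.instDecidableRTb Cfsg.Agent.TitsThree.KExcRT.instDecidableRTc; rewrite [Cfsg.Agent.ChevFast.E7.commTerms, Cfsg.Agent.ChevFast.E7.neg]; decide +kernel)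

theorem ch5 : (∀ a b, a ≠ b → ∀ k, k ∉ J51 → vec chevE7 7 (r5 a b) k = 0) ∧
    ∀ a : Fin 5, r5 a.castSucc a.succ = chevE7.simple (j5 a) := by decide +kernel

theorem ch1 : (∀ a b, a ≠ b → r1 a b < chevE7.nroots) ∧ (∀ a b, a ≠ b → ∀ k, k ∉ J51 → vec chevE7 7 (r1 a b) k = 0) ∧
    (∀ i j, i ≠ j → r1 j i = chevE7.neg (r1 i j)) ∧ ∀ a : Fin 1, r1 a.castSucc a.succ = chevE7.simple (j1 a) := by
  decide +kernel

theorem hsub : Sub2 chevE7 7 J51 4 0 r5 r1 := by decide +kernel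

theorem hcom : Com2 chevE7 4 0 r5 r1 := by (refine of_decide_eq_true ?_; delta Cfsg.Agent.H85.Pw.Com2 Cfsg.Agent.H85.Pw.instDecidableCom2; rewrite [Cfsg.Agent.ChevFast.E7.commTerms, Cfsg.Agent.ChevFast.E7.neg]; decide +kernel)

theorem T5 : Tb Cfsg.Agent.Nodes.KindE.isType7 J51 4 r5 j5 (-1) where
  eps := by norm_num
  up := ch5.2
  neg := rt5.2.2.2
  rlt := rt5.1
  rJ := ch5.1
  hom F _ := exists_hom_D Cfsg.Agent.Nodes.KindE.isType7 (K := F) (n := 3) (ε := -1) (by norm_num) rt5.1 rt5.2.1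
    rt5.2.2.1 rt5.2.2.2

theorem T1 : Tb Cfsg.Agent.Nodes.KindE.isType7 J51 0 r1 j1 1 where
  eps := by norm_num
  up := ch1.2.2.2
  neg := ch1.2.2.1
  rlt := ch1.1
  rJ := ch1.2.1
  hom F _ := Cfsg.Agent.H155.TG.exists_phi2 (K := F) Cfsg.Agent.Nodes.KindE.isType7 0 (r := r1) (s := fun _ _ => 1)
    (ch1.2.2.2 0) ((ch1.2.2.1 0 1 (by decide)).trans (congrArg _ (ch1.2.2.2 0))) rfl rfl

/-! ### The weights -/

/-- the exponents on the block `A_5` : constant, plus `s` at two places -/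
def Pair (e : Fin 6 → ℤ) : Prop :=
  ∃ a b : Fin 6, a ≠ b ∧ ∃ c ∈ [(-1 : ℤ), 0, 1], ∃ s ∈ [(-1 : ℤ), 1], ∀ x, e x = c + if x = a ∨ x = b then s else 0

instance (e : Fin 6 → ℤ) : Decidable (Pair e) := by
  unfold Pair
  infer_instance

theorem wts : ∀ q < chevE7.nroots, (∃ k, k ∉ J51 ∧ vec chevE7 7 q k ≠ 0) →
    (wt chevE7 j1 q 0 - wt chevE7 j1 q 1 = 1 ∨ wt chevE7 j1 q 0 - wt chevE7 j1 q 1 = -1) ∨ Pair (wt chevE7 j5 q) := by
  (delta Cfsg.Agent.H482.Ore.Fix.wt; rewrite [Cfsg.Agent.ChevFast.E7.cartan]; open scoped Cfsg.Agent.ChevFast.Lin in decide +kernel)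

section val

variable {K' : Type} [Field K']

/-- the eigenvalues on the block `A_5` -/
structure E5 (l : ℕ) (lam : Fin 6 → K') : Prop where
  pow : ∀ a, lam a ^ l = 1
  prod : ∏ a, lam a = 1
  two : ∀ a b, a ≠ b → lam a * lam b ≠ 1

/-- the eigenvalues on the block `A_1` -/
structure E1 (r : ℕ) (mu : Fin 2 → K') : Prop where
  pow : ∀ a, mu a ^ r = 1
  prod : mu 0 * mu 1 = 1
  one : mu 0 ≠ 1

theorem zpow_pow_one {x : K'} {l : ℕ} (h : x ^ l = 1) (e : ℤ) : (x ^ e) ^ l = 1 := by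
  rw [← zpow_natCast, ← zpow_mul, mul_comm, zpow_mul, zpow_natCast, h, one_zpow]

theorem ne_zero_of_pow {x : K'} {l : ℕ} (hl : l ≠ 0) (h : x ^ l = 1) : x ≠ 0 := by
  rintro rfl
  rw [zero_pow hl] at h
  exact zero_ne_one h

theorem E5.ne {l : ℕ} (hl : l ≠ 0) {lam : Fin 6 → K'} (H : E5 l lam) {e : Fin 6 → ℤ} (h : Pair e) :
    ∏ b, lam b ^ e b ≠ 1 := by
  classical
  obtain ⟨a, b, hab, c, -, s, hs, he⟩ := h
  have h0 : ∀ x, lam x ≠ 0 := fun x => ne_zero_of_pow hl (H.pow x)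
  have h1 : ∏ x, lam x ^ e x = (∏ x, lam x) ^ c * (lam a * lam b) ^ s := by
    have h2 : ∀ x, lam x ^ e x = lam x ^ c * if x = a ∨ x = b then lam x ^ s else 1 := by
      intro x
      rw [he x, zpow_add₀ (h0 x)]
      congr 1
      split_ifs
      · rfl
      · rw [zpow_zero]
    rw [Finset.prod_congr rfl fun x _ => h2 x, Finset.prod_mul_distrib, Finset.prod_zpow, ← Finset.prod_filter]
    congr 1
    have h3 : Finset.univ.filter (fun x : Fin 6 => x = a ∨ x = b) = {a, b} := by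
      ext x; simp
    rw [h3, Finset.prod_pair hab, mul_zpow]
  rw [h1, H.prod, one_zpow, one_mul]
  intro h2
  have h3 : lam a * lam b = 1 := by
    simp only [List.mem_cons, List.not_mem_nil, or_false] at hs
    rcases hs with rfl | rfl
    · rwa [zpow_neg, zpow_one, inv_eq_one] at h2
    · rwa [zpow_one] at h2
  exact H.two a b hab h3

theorem E1.ne {r : ℕ} (hr : r ≠ 0) {mu : Fin 2 → K'} (H : E1 r mu) {e : Fin 2 → ℤ} (h : e 0 - e 1 = 1 ∨ e 0 - e 1 = -1) :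
    ∏ b, mu b ^ e b ≠ 1 := by
  have h0 : mu 0 ≠ 0 := ne_zero_of_pow hr (H.pow 0)
  have h1 : mu 1 = (mu 0)⁻¹ := eq_inv_of_mul_eq_one_right H.prod
  rw [Fin.prod_univ_two, h1, inv_zpow', ← zpow_add₀ h0, ← sub_eq_add_neg]
  intro h2
  apply H.one
  rcases h with h | h
  · rwa [h, zpow_one] at h2
  · rwa [h, zpow_neg, zpow_one, inv_eq_one] at h2

/-- **the values of the roots outside `J51`** -/
theorem hout {l r : ℕ} (hl : l ≠ 0) (hr : r ≠ 0) (hlr : Nat.Coprime l r) (lam : Fin 6 → K') (H : E5 l lam)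
    (mu : Fin 2 → K') (H' : E1 r mu) : ∀ q < chevE7.nroots, (∃ k, k ∉ J51 ∧ vec chevE7 7 q k ≠ 0) →
      (∏ b, lam b ^ wt chevE7 j5 q b) * ∏ b, mu b ^ wt chevE7 j1 q b ≠ 1 := by
  intro q hq hk h
  obtain ⟨P, hP⟩ : ∃ P, P = ∏ b, lam b ^ wt chevE7 j5 q b := ⟨_, rfl⟩
  obtain ⟨Q, hQ⟩ : ∃ Q, Q = ∏ b, mu b ^ wt chevE7 j1 q b := ⟨_, rfl⟩
  rw [← hP, ← hQ] at h
  have h1 : P ^ l = 1 := by
    rw [hP, ← Finset.prod_pow]
    exact Finset.prod_eq_one fun b _ => zpow_pow_one (H.pow b) _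
  have h2 : Q ^ r = 1 := by
    rw [hQ, ← Finset.prod_pow]
    exact Finset.prod_eq_one fun b _ => zpow_pow_one (H'.pow b) _
  have hQP : Q = P⁻¹ := eq_inv_of_mul_eq_one_right h
  have h3 : P ^ r = 1 := by rwa [hQP, inv_pow, inv_eq_one] at h2
  have h4 : P = 1 := by
    have h5 : orderOf P ∣ Nat.gcd l r := Nat.dvd_gcd (orderOf_dvd_of_pow_eq_one h1) (orderOf_dvd_of_pow_eq_one h3)
    rw [hlr] at h5
    exact orderOf_eq_one_iff.1 (Nat.dvd_one.1 h5)
  rcases wts q hq hk with h5 | h5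
  · apply E1.ne hr H' h5
    rw [← hQ, hQP, h4, inv_one]
  · apply E5.ne hl H h5
    rw [← hP, h4]

end val

end Cfsg.Agent.H224.Pw
end

-- part: H224/Pw/Six
section
/-!
# The block `SL_6` : eigenvalues `1, α, α^q, ..., α^(q^4)` (S2465, helper224)

* `range_of_fix`, `descend` : polynomials over `K'` fixed by the Frobenius endomorphism come from `K`;
* `exists_p` : `p.map i = ∏ (X - α ^ q ^ a)`;
* `P6` : every `L * U` in `SL_6(K)`, `|K| ≥ 3`, is a product of two elements with eigenvalues in `E5 l`.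
-/

set_option autoImplicit false
set_option linter.unusedSectionVars false

namespace Cfsg.Agent.H224.Pw

open Polynomial
open Cfsg.Agent.H85.Pw

universe u

section descend

variable {K : Type u} [Field K] [Finite K] {K' : Type} [Field K'] [Finite K'] (i : K →+* K')

theorem fix_range (x : K) : i x ^ Nat.card K = i x := by
  have : Fintype K := Fintype.ofFinite K
  rw [← map_pow, Nat.card_eq_fintype_card, FiniteField.pow_card]

/-- the fixed points of the Frobenius endomorphism -/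
theorem range_of_fix {c : K'} (hc : c ^ Nat.card K = c) : ∃ x : K, i x = c := by
  classical
  have : Fintype K := Fintype.ofFinite K
  have hq : 1 < Nat.card K := Finite.one_lt_card
  let P : K'[X] := X ^ Nat.card K - X
  have hP0 : P ≠ 0 := FiniteField.X_pow_card_sub_X_ne_zero K' hq
  have hdeg : P.natDegree = Nat.card K := FiniteField.X_pow_card_sub_X_natDegree_eq K' hq
  have hmem : ∀ y : K', y ^ Nat.card K = y → y ∈ P.roots.toFinset := by
    intro y hy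
    rw [Multiset.mem_toFinset, mem_roots hP0, IsRoot.def, eval_sub, eval_pow, eval_X, hy, sub_self]
  have h1 : (Finset.univ.image i) ⊆ P.roots.toFinset := by
    intro y hy
    obtain ⟨x, -, rfl⟩ := Finset.mem_image.1 hy
    exact hmem _ (fix_range i x)
  have h2 : P.roots.toFinset.card ≤ (Finset.univ.image i).card := by
    rw [Finset.card_image_of_injective _ i.injective, Finset.card_univ, ← Nat.card_eq_fintype_card, ← hdeg]
    exact (Multiset.toFinset_card_le _).trans (card_roots' P)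
  have h3 := Finset.eq_of_subset_of_card_le h1 h2
  have h4 := hmem c hc
  rw [← h3] at h4
  obtain ⟨x, -, hx⟩ := Finset.mem_image.1 h4
  exact ⟨x, hx⟩

include i in
/-- the Frobenius endomorphism -/
theorem exists_frob : ∃ φ : K' →+* K', ∀ x, φ x = x ^ Nat.card K := by
  obtain ⟨ch, hch⟩ := CharP.exists K
  have hp : Fact ch.Prime := ⟨(CharP.char_is_prime_or_zero K ch).resolve_right (CharP.char_ne_zero_of_finite K ch)⟩
  have : Fintype K := Fintype.ofFinite K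
  obtain ⟨n, -, hn⟩ := FiniteField.card K ch
  have hcK' : CharP K' ch := charP_of_injective_ringHom i.injective ch
  exact ⟨iterateFrobenius K' ch n, fun x => by rw [iterateFrobenius_def, Nat.card_eq_fintype_card, hn]⟩

theorem descend {φ : K' →+* K'} (hφ : ∀ x, φ x = x ^ Nat.card K) {P : K'[X]} (hP : P.map φ = P) :
    ∃ p : K[X], p.map i = P := by
  have h1 : P ∈ Polynomial.lifts i := by
    rw [Polynomial.lifts_iff_coeff_lifts]
    intro n
    obtain ⟨x, hx⟩ := range_of_fix i (c := P.coeff n) (by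
      rw [← hφ, ← coeff_map, hP])
    exact ⟨x, hx⟩
  obtain ⟨p, hp⟩ := (Polynomial.mem_lifts P).1 h1
  exact ⟨p, hp⟩

/-- the polynomial with the roots `α ^ q ^ a`, `a < m` -/
theorem exists_p {m : ℕ} (hm : 0 < m) {α : K'} (hα : α ^ Nat.card K ^ m = α) :
    ∃ p : K[X], p.Monic ∧ p.natDegree = m ∧ p.map i = ∏ a : Fin m, (X - C (α ^ Nat.card K ^ (a : ℕ))) := by
  obtain ⟨φ, hφ⟩ := exists_frob (K' := K') i
  obtain ⟨m, rfl⟩ : ∃ m', m = m' + 1 := ⟨m - 1, by omega⟩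
  set q := Nat.card K with hq
  set P : K'[X] := ∏ a : Fin (m + 1), (X - C (α ^ q ^ (a : ℕ))) with hP
  have h1 : P.map φ = P := by
    rw [hP, Polynomial.map_prod]
    have h2 : ∀ a : Fin (m + 1), (X - C (α ^ q ^ (a : ℕ)) : K'[X]).map φ = X - C (α ^ q ^ ((a : ℕ) + 1)) := by
      intro a
      rw [Polynomial.map_sub, map_X, map_C, hφ, ← pow_mul, ← pow_succ]
    rw [Finset.prod_congr rfl fun a _ => h2 a]
    rw [Fin.prod_univ_castSucc, Fin.prod_univ_succ (n := m) (f := fun a : Fin (m + 1) => (X - C (α ^ q ^ (a : ℕ)) : K'[X]))]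
    rw [Fin.val_last, hα, mul_comm]
    simp only [_root_.Fin.val_castSucc, _root_.map_pow, _root_.Fin.coe_ofNat_eq_mod, _root_.Nat.zero_mod, _root_.pow_zero, _root_.pow_one, _root_.Fin.val_succ]
  obtain ⟨p, hp⟩ := descend i hφ h1
  have hPm : P.Monic := monic_prod_of_monic _ _ fun a _ => monic_X_sub_C _
  have hPd : P.natDegree = m + 1 := by
    rw [hP, natDegree_prod_of_monic _ _ fun a _ => monic_X_sub_C _]
    simp only [natDegree_X_sub_C, Finset.sum_const, Finset.card_univ, Fintype.card_fin, smul_eq_mul, mul_one]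
  refine ⟨p, ?_, ?_, hp⟩
  · exact monic_of_injective i.injective (by rw [hp]; exact hPm)
  · rw [← natDegree_map_eq_of_injective i.injective p, hp, hPd]

end descend

/-! ### The eigenvalues of the inverse -/

section inv

variable {K : Type u} [Field K] {K' : Type} [Field K'] (i : K →+* K') {m : ℕ}

theorem ev_conj {E : (Fin m → K') → Prop} {x : Matrix.SpecialLinearGroup (Fin m) K} (h : Ev i E x)
    (g : Matrix.SpecialLinearGroup (Fin m) K) : Ev i E (g * x * g⁻¹) := by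
  obtain ⟨lam, h1, h2, h3⟩ := h
  refine ⟨lam, h1, h2, ?_⟩
  rw [← h3]
  congr 1
  have e : ((g * x * g⁻¹ : Matrix.SpecialLinearGroup (Fin m) K) : Matrix (Fin m) (Fin m) K) =
      (g : Matrix (Fin m) (Fin m) K) * x * ((g⁻¹ : Matrix.SpecialLinearGroup (Fin m) K) : Matrix (Fin m) (Fin m) K) := rfl
  rw [e, Matrix.charpoly_mul_comm, ← mul_assoc]
  have e2 : ((g⁻¹ : Matrix.SpecialLinearGroup (Fin m) K) : Matrix (Fin m) (Fin m) K) * (g : Matrix (Fin m) (Fin m) K) = 1 := by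
    rw [← Matrix.SpecialLinearGroup.coe_mul, inv_mul_cancel]; rfl
  rw [e2, one_mul]

theorem ev_inv {E : (Fin m → K') → Prop} (hE : ∀ lam, E lam → E lam⁻¹) (h0 : ∀ lam, E lam → ∀ a, lam a ≠ 0)
    {x : Matrix.SpecialLinearGroup (Fin m) K} (h : Ev i E x) : Ev i E x⁻¹ := by
  obtain ⟨lam, h1, h2, h3⟩ := h
  refine ⟨lam⁻¹, hE lam h1, fun a b hab => h2 (inv_injective hab), ?_⟩
  obtain ⟨g, hg⟩ := Cfsg.Agent.H934.MF.diag_map i x.1 h2 h3
  have hgg : (g : Matrix (Fin m) (Fin m) K') * ((g⁻¹ : GL (Fin m) K') : Matrix (Fin m) (Fin m) K') = 1 := by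
    rw [← Units.val_mul, mul_inv_cancel]; rfl
  have hgg' : ((g⁻¹ : GL (Fin m) K') : Matrix (Fin m) (Fin m) K') * (g : Matrix (Fin m) (Fin m) K') = 1 := by
    rw [← Units.val_mul, inv_mul_cancel]; rfl
  have hd : Matrix.diagonal lam * Matrix.diagonal lam⁻¹ = 1 := by
    rw [Matrix.diagonal_mul_diagonal, ← Matrix.diagonal_one]
    congr 1
    funext a
    rw [Pi.inv_apply, mul_inv_cancel₀ (h0 lam h1 a)]
  have e1 : x.1.map i * (x⁻¹).1.map i = 1 := by
    have h4 : x.1 * (x⁻¹).1 = 1 := by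
      rw [← Matrix.SpecialLinearGroup.coe_mul, mul_inv_cancel]; rfl
    have h5 := congrArg (fun M : Matrix (Fin m) (Fin m) K => i.mapMatrix M) h4
    simpa only [RingHom.mapMatrix_apply, Matrix.map_mul, _root_.Matrix.SpecialLinearGroup.coe_inv, _root_.map_zero, _root_.map_one, _root_.Matrix.map_one] using h5
  have e2 : (x⁻¹).1.map i = (g : Matrix (Fin m) (Fin m) K') * Matrix.diagonal lam⁻¹ * ((g⁻¹ : GL (Fin m) K') : Matrix (Fin m) (Fin m) K') := by
    have e3 : x.1.map i * ((g : Matrix (Fin m) (Fin m) K') * Matrix.diagonal lam⁻¹ * ((g⁻¹ : GL (Fin m) K') : Matrix (Fin m) (Fin m) K')) = 1 := by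
      rw [hg]
      calc _ = (g : Matrix (Fin m) (Fin m) K') * Matrix.diagonal lam * (((g⁻¹ : GL (Fin m) K') : Matrix (Fin m) (Fin m) K') *
            (g : Matrix (Fin m) (Fin m) K')) * Matrix.diagonal lam⁻¹ * ((g⁻¹ : GL (Fin m) K') : Matrix (Fin m) (Fin m) K') := by
              simp only [mul_assoc]
        _ = (g : Matrix (Fin m) (Fin m) K') * (Matrix.diagonal lam * Matrix.diagonal lam⁻¹) *
            ((g⁻¹ : GL (Fin m) K') : Matrix (Fin m) (Fin m) K') := by rw [hgg', mul_one]; simp only [mul_assoc]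
        _ = 1 := by rw [hd, mul_one, hgg]
    exact left_inv_eq_right_inv (mul_eq_one_comm.1 e1) e3
  rw [← Matrix.charpoly_map, e2, Matrix.charpoly_mul_comm, ← mul_assoc, hgg', one_mul, Matrix.charpoly_diagonal]

end inv

/-! ### The product lemma -/

section six

variable {K : Type u} [Field K] [Finite K] {K' : Type} [Field K'] [Finite K'] (i : K →+* K')

theorem E5.inv {l : ℕ} {lam : Fin 6 → K'} (h : E5 l lam) : E5 l lam⁻¹ where
  pow a := by rw [Pi.inv_apply, inv_pow, h.pow, inv_one]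
  prod := by
    have := h.prod
    simp only [Pi.inv_apply]
    rw [Finset.prod_inv_distrib, this, inv_one]
  two a b hab := by
    rw [Pi.inv_apply, Pi.inv_apply, ← mul_inv]
    intro h1
    exact h.two a b hab (inv_eq_one.1 h1)

/-- the element `c₀` -/
theorem exists_six {l : ℕ} (hl : l.Prime) (h5 : l ∣ Nat.card K ^ 5 - 1) (h1 : ¬ l ∣ Nat.card K - 1)
    {α : K'} (hα : orderOf α = l) :
    ∃ c₀ : Matrix.SpecialLinearGroup (Fin 6) K, Cfsg.Agent.H150.MF.NiceM (c₀ : Matrix (Fin 6) (Fin 6) K) ∧ Ev i (E5 l) c₀ := by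
  have hq : 1 < Nat.card K := Finite.one_lt_card
  obtain ⟨q, hqe⟩ : ∃ q, q = Nat.card K := ⟨_, rfl⟩
  rw [← hqe] at hq h5 h1
  have hα1 : α ^ l = 1 := by rw [← hα]; exact pow_orderOf_eq_one α
  have hα0 : α ≠ 0 := ne_zero_of_pow hl.ne_zero hα1
  have hdvd : ∀ e : ℕ, α ^ e = 1 ↔ l ∣ e := fun e => by rw [← hα, orderOf_dvd_iff_pow_eq_one]
  have hlq : ¬ l ∣ q := by
    intro h
    have h3 : l ∣ q ^ 5 := dvd_pow h (by norm_num)
    have h4 : l ∣ q ^ 5 - (q ^ 5 - 1) := Nat.dvd_sub h3 h5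
    have h6 : 1 ≤ q ^ 5 := Nat.one_le_pow _ _ (by omega)
    rw [Nat.sub_sub_self h6] at h4
    exact hl.one_lt.ne' (Nat.dvd_one.1 h4)
  -- the order of `q` modulo `l`
  have hz5 : (q : ZMod l) ^ 5 = 1 := by
    have h6 : 1 ≤ q ^ 5 := Nat.one_le_pow _ _ (by omega)
    have h7 : ((q ^ 5 - 1 : ℕ) : ZMod l) = 0 := (ZMod.natCast_eq_zero_iff _ _).2 h5
    rw [Nat.cast_sub h6, Nat.cast_pow, Nat.cast_one, sub_eq_zero] at h7
    exact h7
  have hz1 : (q : ZMod l) ≠ 1 := by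
    intro h
    apply h1
    rw [← ZMod.natCast_eq_zero_iff, Nat.cast_sub hq.le, h, Nat.cast_one, sub_self]
  have hord : orderOf (q : ZMod l) = 5 := by
    have : Fact (Nat.Prime 5) := ⟨by norm_num⟩
    exact orderOf_eq_prime hz5 hz1
  have hinjz : ∀ a b : ℕ, (q : ZMod l) ^ a = (q : ZMod l) ^ b → a % 5 = b % 5 := by
    intro a b hab
    have hF : Fact l.Prime := ⟨hl⟩
    have hq0 : (q : ZMod l) ≠ 0 := fun h => hlq ((ZMod.natCast_eq_zero_iff _ _).1 h)
    have h3 : Units.mk0 (q : ZMod l) hq0 ^ a = Units.mk0 (q : ZMod l) hq0 ^ b := Units.ext (by simpa only [_root_.Units.val_pow_eq_pow_val, _root_.Units.val_mk0] using hab)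
    rw [pow_eq_pow_iff_modEq] at h3
    have h4 : orderOf (Units.mk0 (q : ZMod l) hq0) = 5 := by rw [← orderOf_units, Units.val_mk0, hord]
    rw [h4] at h3
    exact h3
  have hnd : ∀ a : ℕ, ¬ l ∣ q ^ a := fun a h => hlq (hl.dvd_of_dvd_pow h)
  have hsum2 : ∀ a b : Fin 5, a ≠ b → ¬ l ∣ q ^ (a : ℕ) + q ^ (b : ℕ) := by
    intro a b hab h
    have h3 : ((q ^ (a : ℕ) + q ^ (b : ℕ) : ℕ) : ZMod l) = 0 := (ZMod.natCast_eq_zero_iff _ _).2 h
    push_cast at h3
    have h4 : (q : ZMod l) ^ (a : ℕ) = - (q : ZMod l) ^ (b : ℕ) := eq_neg_of_add_eq_zero_left h3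
    have h6 : (q : ZMod l) ^ (2 * (a : ℕ)) = (q : ZMod l) ^ (2 * (b : ℕ)) := by
      rw [mul_comm 2, mul_comm 2, pow_mul, pow_mul, h4, neg_sq]
    have h7 := hinjz _ _ h6
    apply hab
    apply Fin.ext
    have := a.2
    have := b.2
    omega
  let μ : Fin 5 → K' := fun a => α ^ q ^ (a : ℕ)
  have hμinj : Function.Injective μ := by
    intro a b hab
    have h3 : q ^ (a : ℕ) ≡ q ^ (b : ℕ) [MOD l] := by
      have h4 : Units.mk0 α hα0 ^ q ^ (a : ℕ) = Units.mk0 α hα0 ^ q ^ (b : ℕ) := Units.ext (by simpa only [_root_.Units.val_pow_eq_pow_val, _root_.Units.val_mk0] using hab)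
      rw [pow_eq_pow_iff_modEq, ← orderOf_units, Units.val_mk0, hα] at h4
      exact h4
    have h4 := (ZMod.natCast_eq_natCast_iff _ _ l).2 h3
    push_cast at h4
    have h5 := hinjz _ _ h4
    apply Fin.ext
    have := a.2
    have := b.2
    omega
  have hμ1 : ∀ a, μ a ≠ 1 := fun a h => hnd _ ((hdvd _).1 h)
  have hμp : ∏ a, μ a = 1 := by
    have h3 : ∏ a, μ a = α ^ ∑ a : Fin 5, q ^ (a : ℕ) := Finset.prod_pow_eq_pow_sum _ _ _
    rw [h3, hdvd]
    have h4 : (q - 1) * ∑ a : Fin 5, q ^ (a : ℕ) = q ^ 5 - 1 := by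
      rw [Fin.sum_univ_eq_sum_range (fun a => q ^ a) 5]
      exact geom_mul q 5 hq.le
    rw [← h4] at h5
    exact (hl.dvd_mul.1 h5).resolve_left h1
  obtain ⟨p, hpm, hpd, hpi⟩ := exists_p i (m := 5) (by norm_num) (α := α) (by
    rw [← hqe]
    have h3 : q ^ 5 ≡ 1 [MOD l] := by
      rw [Nat.ModEq.comm]
      exact (Nat.modEq_iff_dvd' (Nat.one_le_pow _ _ (by omega))).2 h5
    have h4 := (pow_eq_pow_iff_modEq (x := Units.mk0 α hα0) (n := q ^ 5) (m := 1)).2 (by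
      rw [← orderOf_units, Units.val_mk0, hα]; exact h3)
    have h6 := congrArg Units.val h4
    simpa using h6)
  rw [← hqe] at hpi
  have hpi' : p.map i = ∏ a : Fin 5, (X - C (μ a)) := hpi
  have hp0 : p.coeff 0 = -1 := by
    apply i.injective
    rw [← coeff_map, hpi', coeff_zero_eq_eval_zero, eval_prod]
    simp only [eval_sub, eval_X, eval_C, zero_sub]
    rw [Finset.prod_neg, hμp, Finset.card_univ, Fintype.card_fin, map_neg, map_one]
    norm_num
  have hpν : p.eval 1 ≠ 0 := by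
    intro h
    have h3 : (p.map i).eval (i 1) = 0 := by rw [eval_map_apply, h, map_zero]
    rw [hpi', eval_prod, Finset.prod_eq_zero_iff] at h3
    obtain ⟨a, -, ha⟩ := h3
    rw [eval_sub, eval_X, eval_C, map_one, sub_eq_zero] at ha
    exact hμ1 a ha.symm
  obtain ⟨c₀, hc1, hc2⟩ := Cfsg.Agent.H150.MF.exists_niceM (n := 6) (ν := 1) hpm (by rw [hpd]) (by
    rw [mul_coeff_zero, coeff_sub, coeff_X_zero, coeff_C_zero, hp0]
    norm_num) hpν
  refine ⟨c₀, hc2, Fin.cons 1 μ, ⟨?_, ?_, ?_⟩, ?_, ?_⟩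
  · intro a
    refine Fin.cases ?_ (fun a => ?_) a
    · rw [Fin.cons_zero, one_pow]
    · rw [Fin.cons_succ]
      show (α ^ q ^ (a : ℕ)) ^ l = 1
      rw [← pow_mul, mul_comm, pow_mul, hα1, one_pow]
  · rw [Fin.prod_univ_succ, Fin.cons_zero, one_mul]
    simp only [Fin.cons_succ]
    exact hμp
  · intro a b
    refine Fin.cases ?_ (fun a => ?_) a <;> refine Fin.cases ?_ (fun b => ?_) b
    · intro h; exact absurd rfl h
    · intro _
      rw [Fin.cons_zero, Fin.cons_succ, one_mul]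
      exact hμ1 b
    · intro _
      rw [Fin.cons_zero, Fin.cons_succ, mul_one]
      exact hμ1 a
    · intro hab
      rw [Fin.cons_succ, Fin.cons_succ]
      show α ^ q ^ (a : ℕ) * α ^ q ^ (b : ℕ) ≠ 1
      rw [← pow_add, Ne, hdvd]
      exact hsum2 a b fun h => hab (congrArg Fin.succ h)
  · intro a b
    refine Fin.cases ?_ (fun a => ?_) a <;> refine Fin.cases ?_ (fun b => ?_) b
    · intro _; rfl
    · intro h
      rw [Fin.cons_zero, Fin.cons_succ] at h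
      exact absurd h.symm (hμ1 b)
    · intro h
      rw [Fin.cons_zero, Fin.cons_succ] at h
      exact absurd h (hμ1 a)
    · intro h
      rw [Fin.cons_succ, Fin.cons_succ] at h
      exact congrArg Fin.succ (hμinj h)
  · have h := Fin.prod_univ_succ (fun a : Fin 6 => (X - C ((Fin.cons 1 μ : Fin 6 → K') a) : K'[X]))
    simp only [Fin.cons_zero, Fin.cons_succ] at h
    rw [hc1, Polynomial.map_mul, hpi', Polynomial.map_sub, map_X, map_C, map_one]
    exact h.symm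

/-- **Every `L * U` in `SL_6(K)`.** -/
theorem P6 (hK : 3 ≤ Nat.card K) {l : ℕ} (hl : l.Prime) (h5 : l ∣ Nat.card K ^ 5 - 1)
    (h1 : ¬ l ∣ Nat.card K - 1) {α : K'} (hα : orderOf α = l) :
    ∀ L ∈ Cfsg.Agent.H162.GaussSL.LT 6 K, ∀ U ∈ Cfsg.Agent.H162.GaussSL.UT 6 K,
      ∃ x y : Matrix.SpecialLinearGroup (Fin 6) K, L * U = x * y ∧ Ev i (E5 l) x ∧ Ev i (E5 l) y := by
  intro L hL U hU
  obtain ⟨c₀, hc, he⟩ := exists_six i hl h5 h1 hα
  obtain ⟨g, h, hgh⟩ := Cfsg.Agent.H150.MF.mf_lu hK (by norm_num) hc hL hU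
  exact ⟨_, _, hgh, ev_conj i he g, ev_conj i (ev_inv i (fun lam h => h.inv)
    (fun lam h a => ne_zero_of_pow hl.ne_zero (h.pow a)) he) h⟩

end six

end Cfsg.Agent.H224.Pw
end
end
end
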